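import Cfsg.Agent.Lib.Fusion.RankTwoReal.Frame

/-!
Realising a saturated system with two candidates from three model groups.
-/

set_option autoImplicit false

namespace Cfsg

namespace FusionSystem

namespace RankTwo

universe u v

variable {Ω : Type u} [Group Ω] {S A B cA cB : Subgroup Ω}

/-- The image of a subgroup under an automorphism of `S`. -/
def mapSub (β : MulAut S) (A : Subgroup Ω) : Subgroup Ω :=
  (A.subgroupOf S).map (S.subtype.comp β.toMonoidHom)

theorem mapSub_le (β : MulAut S) (A : Subgroup Ω) : mapSub β A ≤ S := by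
  rintro _ ⟨a, -, rfl⟩
  exact (β a).2

theorem exists_equiv_mapSub (β : MulAut S) {A' : Subgroup Ω} (hA : A ≤ S) (h : mapSub β A = A') :
    ∃ γ : A ≃* A', ∀ a : A, ((γ a : A') : Ω) = β ⟨a, hA a.2⟩ := by
  subst h
  have hinj : Function.Injective (S.subtype.comp β.toMonoidHom) :=
    Subtype.coe_injective.comp β.injective
  refine ⟨(Subgroup.subgroupOfEquivOfLe hA).symm.trans ((A.subgroupOf S).equivMapOfInjective _ hinj), fun a => rfl⟩

/-- The automizer of `A` can be moved onto any other possible one by an automorphism of `S`. -/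
def IsAdjustable (S A B : Subgroup Ω) (hA : A ≤ S) : Prop :=
  ∀ H₁ H₂ : Subgroup (MulAut A), IsBig S A H₁ → IsBig S A H₂ →
    ∃ (β : MulAut S) (γ : MulAut A), (∀ a : A, ((γ a : A) : Ω) = β ⟨a, hA a.2⟩) ∧
      (∃ s ∈ S, B.map (MulAut.conj s).toMonoidHom = mapSub β B) ∧
      H₁.map (MulAut.congr γ).toMonoidHom = H₂

theorem isAdjustable_of_isRigid (hA : A ≤ S) (hB : B ≤ S) (h : IsRigid S A) : IsAdjustable S A B hA := by
  intro H₁ H₂ h₁ h₂
  refine ⟨1, 1, fun a => rfl, ⟨1, S.one_mem, ?_⟩, ?_⟩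
  · ext x
    constructor
    · rintro ⟨b, hb, rfl⟩
      exact ⟨⟨b, hB hb⟩, hb, by simp⟩
    · rintro ⟨b, hb, rfl⟩
      exact ⟨b, hb, by simp⟩
  · rw [h H₁ H₂ h₁ h₂]
    refine Eq.trans ?_ (Subgroup.map_id H₂)
    congr 1

/-- A finite group realizing a system on `S` with the given property. -/
def HasModel (S : Subgroup Ω) (p : FusionSystem S → Prop) : Prop :=
  ∃ (G : Type u) (_ : Group G) (_ : Finite G) (ι : S →* G) (hι : Function.Injective ι) (T : Sylow 2 G),
    (T : Subgroup G) = ι.range ∧ p (pullbackSystem ι hι)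

variable {G : Type v} [Group G] {ι : S →* G} {hι : Function.Injective ι}

theorem comp_injective (hι : Function.Injective ι) (β : MulAut S) :
    Function.Injective (ι.comp β.toMonoidHom) :=
  hι.comp β.injective

theorem mem_autGroup_comp (β : MulAut S) {A' : Subgroup Ω} (hA : A ≤ S) (hA' : A' ≤ S) (γ : A ≃* A')
    (hγ : ∀ a : A, ((γ a : A') : Ω) = β ⟨a, hA a.2⟩) (α : MulAut A) :
    α ∈ (pullbackSystem (ι.comp β.toMonoidHom) (comp_injective hι β)).autGroup A ↔
      MulAut.congr γ α ∈ (pullbackSystem ι hι).autGroup A' := by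
  rw [mem_pullback_autGroup _ _ hA, mem_pullback_autGroup _ _ hA']
  have he : ∀ a : A, β ⟨a, hA a.2⟩ = ⟨γ a, hA' (γ a).2⟩ := fun a => Subtype.ext (hγ a).symm
  constructor
  · rintro ⟨g, hg⟩
    refine ⟨g, fun y => ?_⟩
    obtain ⟨a, rfl⟩ := γ.surjective y
    have h := hg a
    simp only [MonoidHom.coe_comp, Function.comp_apply, MulEquiv.coe_toMonoidHom, he] at h
    simpa [MulAut.congr] using h
  · rintro ⟨g, hg⟩
    refine ⟨g, fun a => ?_⟩
    have h := hg (γ a)
    simp only [MonoidHom.coe_comp, Function.comp_apply, MulEquiv.coe_toMonoidHom, he]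
    simpa [MulAut.congr] using h

theorem moves_comp_iff (β : MulAut S) {A' : Subgroup Ω} (hA : A ≤ S) (h : mapSub β A = A') :
    Moves (pullbackSystem (ι.comp β.toMonoidHom) (comp_injective hι β)) A ↔ Moves (pullbackSystem ι hι) A' := by
  have hA' : A' ≤ S := h ▸ mapSub_le β A
  obtain ⟨γ, hγ⟩ := exists_equiv_mapSub β hA h
  constructor
  · rintro ⟨α, hα, h1, ho⟩
    exact ⟨MulAut.congr γ α, (mem_autGroup_comp β hA hA' γ hγ α).1 hα,
      fun e => h1 ((MulAut.congr γ).injective (e.trans (map_one _).symm)), by rwa [MulEquiv.orderOf_eq]⟩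
  · rintro ⟨α, hα, h1, ho⟩
    obtain ⟨α, rfl⟩ := (MulAut.congr γ).surjective α
    rw [MulEquiv.orderOf_eq] at ho
    exact ⟨α, (mem_autGroup_comp β hA hA' γ hγ α).2 hα, fun e => h1 (e ▸ map_one _), ho⟩

theorem range_comp (β : MulAut S) : (ι.comp β.toMonoidHom).range = ι.range := by
  ext x
  constructor
  · rintro ⟨s, rfl⟩
    exact ⟨β s, rfl⟩
  · rintro ⟨s, rfl⟩
    exact ⟨β.symm s, by simp⟩

variable [Finite S]

theorem moves_conj_iff {F : FusionSystem S} (hA : A ≤ S) {s : Ω} (hs : s ∈ S) :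
    Moves F (A.map (MulAut.conj s).toMonoidHom) ↔ Moves F A :=
  ⟨fun h => moves_of_isConj (isConj_conj hA hs rfl).symm h, fun h => moves_of_isConj (isConj_conj hA hs rfl) h⟩

/-- Models can be transported along an automorphism exchanging the two candidates. -/
theorem hasModel_swap (hA : A ≤ S) (hB : B ≤ S) (β : MulAut S) {s t : Ω} (hs : s ∈ S) (ht : t ∈ S)
    (h₁ : mapSub β A = B.map (MulAut.conj s).toMonoidHom) (h₂ : mapSub β B = A.map (MulAut.conj t).toMonoidHom)
    (hm : HasModel S fun E => Moves E A ∧ ¬ Moves E B) : HasModel S fun E => ¬ Moves E A ∧ Moves E B := by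
  obtain ⟨G, _, _, ι, hι, T, hT, hmA, hmB⟩ := hm
  refine ⟨G, inferInstance, inferInstance, ι.comp β.toMonoidHom, comp_injective hι β, T,
    hT.trans (range_comp β).symm, fun h => hmB ?_, ?_⟩
  · exact (moves_conj_iff hB hs).1 ((moves_comp_iff β hA h₁).1 h)
  · exact (moves_comp_iff β hB h₂).2 ((moves_conj_iff hA ht).2 hmA)

theorem inner_isRealizable (hS : IsPGroup 2 S) : (innerFusionSystem S).IsRealizable 2 := by
  haveI : Fact (Nat.Prime 2) := ⟨Nat.prime_two⟩
  refine ⟨S, inferInstance, inferInstance, MonoidHom.id S, ⟨fun a b h => h, fun P hP φ hφ => ⟨?_, ?_⟩⟩,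
    IsPGroup.toSylow (hS.to_subgroup (⊤ : Subgroup S)) (by
      rw [Subgroup.index_top]
      norm_num), ?_⟩
  · rintro ⟨-, g, hg, h⟩
    exact ⟨⟨g, hg⟩, fun x => Subtype.ext (h x)⟩
  · rintro ⟨g, h⟩
    exact ⟨hP, g, g.2, fun x => congrArg Subtype.val (h x)⟩
  · exact (MonoidHom.range_eq_top.2 fun x => ⟨x, rfl⟩).symm

/-- The assembly. -/
theorem IsFrame.isRealizable (fr : IsFrame S A cA B cB) (hS : IsPGroup 2 S) (adj : IsAdjustable S A B fr.candA.le)
    (rig : IsRigid S B) (m₂ : HasModel S fun E => Moves E A ∧ Moves E B)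
    (mA : HasModel S fun E => Moves E A ∧ ¬ Moves E B) (mB : HasModel S fun E => ¬ Moves E A ∧ Moves E B)
    (F : FusionSystem S) (hF : F.IsSaturated 2) : F.IsRealizable 2 := by
  haveI : Fact (Nat.Prime 2) := ⟨Nat.prime_two⟩
  have hA := fr.candA.le
  have hB := fr.candB.le
  have finish : HasModel S (fun E => (Moves E A ↔ Moves F A) ∧ (Moves E B ↔ Moves F B)) → F.IsRealizable 2 := by
    rintro ⟨G, _, _, ι, hι, T, hT, hmA, hmB⟩
    have hE := pullbackSystem_isSaturated ι hι T hT
    obtain ⟨β, hβA, hβB⟩ : ∃ β : MulAut S,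
        (pullbackSystem (ι.comp β.toMonoidHom) (comp_injective hι β)).autGroup A = F.autGroup A ∧
          ∃ s ∈ S, B.map (MulAut.conj s).toMonoidHom = mapSub β B := by
      by_cases h : Moves F A
      · obtain ⟨β, γ, hγ, hs, hmap⟩ := adj _ _ (fr.candA.isBig hS hF h) (fr.candA.isBig hS hE (hmA.2 h))
        refine ⟨β, ?_, hs⟩
        ext α
        rw [mem_autGroup_comp (hι := hι) β hA hA γ hγ, ← hmap]
        exact ⟨fun ⟨α', hα', e⟩ => (MulAut.congr γ).injective e ▸ hα', fun h => Subgroup.mem_map_of_mem _ h⟩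
      · refine ⟨1, ?_, 1, S.one_mem, ?_⟩
        · rw [fr.candA.eq_of_not_moves hS hF h]
          refine Eq.trans ?_ (fr.candA.eq_of_not_moves hS hE fun h' => h (hmA.1 h'))
          rfl
        · ext x
          constructor
          · rintro ⟨b, hb, rfl⟩
            exact ⟨⟨b, hB hb⟩, hb, by simp⟩
          · rintro ⟨b, hb, rfl⟩
            exact ⟨b, hb, by simp⟩
    obtain ⟨s, hs, hsB⟩ := hβB
    refine ⟨G, inferInstance, inferInstance, ι.comp β.toMonoidHom, ?_, T, hT.trans (range_comp β).symm⟩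
    have hrange := hT.trans (range_comp β).symm
    have hE' := pullbackSystem_isSaturated _ (comp_injective hι β) T hrange
    refine fr.realizedBy_of_agree hS hF _ (comp_injective hι β) T hrange hβA.symm ?_
    have hiff : Moves (pullbackSystem (ι.comp β.toMonoidHom) (comp_injective hι β)) B ↔ Moves F B :=
      (moves_comp_iff β hB hsB.symm).trans ((moves_conj_iff hB hs).trans hmB)
    by_cases h : Moves F B
    · exact rig _ _ (fr.candB.isBig hS hF h) (fr.candB.isBig hS hE' (hiff.2 h))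
    · rw [fr.candB.eq_of_not_moves hS hF h, fr.candB.eq_of_not_moves hS hE' fun h' => h (hiff.1 h')]
  have weaken : ∀ {p q : FusionSystem S → Prop}, HasModel S p → (∀ E, p E → q E) → HasModel S q :=
    fun ⟨G, hg, hf, ι, hι, T, hT, hp⟩ h => ⟨G, hg, hf, ι, hι, T, hT, h _ hp⟩
  by_cases hmA : Moves F A <;> by_cases hmB : Moves F B
  · exact finish (weaken m₂ fun E h => ⟨iff_of_true h.1 hmA, iff_of_true h.2 hmB⟩)
  · exact finish (weaken mA fun E h => ⟨iff_of_true h.1 hmA, iff_of_false h.2 hmB⟩)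
  · exact finish (weaken mB fun E h => ⟨iff_of_false h.1 hmA, iff_of_true h.2 hmB⟩)
  · have hin := innerFusionSystem_isSaturated S 2 hS
    have hA' := (fr.candA.eq_of_not_moves hS hF hmA).trans (autGroup_innerFusionSystem hA).symm
    have hB' := (fr.candB.eq_of_not_moves hS hF hmB).trans (autGroup_innerFusionSystem hB).symm
    obtain ⟨G, i₁, i₂, ι, hι, T, hT⟩ := inner_isRealizable (S := S) hS
    refine ⟨G, i₁, i₂, ι, ⟨hι.1, fun P hP φ hφ => ?_⟩, T, hT⟩
    rw [← hι.2 P hP φ hφ]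
    exact ⟨fun h => fr.le_of_agree hS hF hin hA' hB' P h, fun h => fr.le_of_agree hS hin hF hA'.symm hB'.symm P h⟩

end RankTwo

end FusionSystem

end Cfsg
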