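import Cfsg.Agent.Lib.Fusion.RankTwoReal.Pullback
import Cfsg.Agent.Lib.Fusion.Saturation

/-!
Candidate subgroups: the representatives of the possible classes of essential subgroups of a saturated system on a
small 2-group, with the action of their automorphisms of odd order.
-/

set_option autoImplicit false

namespace Cfsg

namespace FusionSystem

namespace RankTwo

universe u

variable {Ω : Type u} [Group Ω] {S A B : Subgroup Ω}

/-- A subgroup whose automorphism group in any saturated system is controlled by `core`. -/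
structure Candidate (S A core : Subgroup Ω) : Prop where
  le : A ≤ S
  core_le : core ≤ A
  centric : centralizerIn S A ≤ A
  maxNormalizer : ∀ A' : Subgroup Ω, A' ≤ S → Nonempty (A ≃* A') →
    Nat.card (normalizerIn S A') ≤ Nat.card (normalizerIn S A)
  diff : ∀ α : MulAut A, Odd (orderOf α) → ∀ a : A, ((a⁻¹ * α a : A) : Ω) ∈ core
  moves : ∀ α : MulAut A, Odd (orderOf α) → α ≠ 1 →
    core ≤ Subgroup.closure {w : Ω | ∃ a : A, w = ((a⁻¹ * α a : A) : Ω)}

/-- A group of automorphisms which could be the automizer of a moving candidate. -/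
def IsBig (S A : Subgroup Ω) (H : Subgroup (MulAut A)) : Prop :=
  autInducedBy S A ≤ H ∧ ¬ 2 ∣ (autInducedBy S A).relIndex H ∧ ∃ α ∈ H, α ≠ 1 ∧ Odd (orderOf α)

/-- Only one automizer is possible. -/
def IsRigid (S A : Subgroup Ω) : Prop :=
  ∀ H₁ H₂ : Subgroup (MulAut A), IsBig S A H₁ → IsBig S A H₂ → H₁ = H₂

/-- The system has an automorphism of odd order on `A`. -/
def Moves (F : FusionSystem S) (A : Subgroup Ω) : Prop :=
  ∃ α ∈ F.autGroup A, α ≠ 1 ∧ Odd (orderOf α)

theorem exists_odd_pow {X : Type*} [Group X] [Finite X] (α : X) :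
    ∃ k : ℕ, Odd (orderOf (α ^ 2 ^ k)) := by
  haveI : Fact (Nat.Prime 2) := ⟨Nat.prime_two⟩
  obtain ⟨e, r, hr, he⟩ := Nat.exists_eq_pow_mul_and_not_dvd (orderOf_pos α).ne' 2 (by norm_num)
  refine ⟨e, ?_⟩
  rw [orderOf_pow' α (pow_ne_zero _ two_ne_zero), he, Nat.gcd_mul_right_left,
    Nat.mul_div_cancel_left _ (pow_pos two_pos e)]
  exact Nat.odd_iff.2 (Nat.two_dvd_ne_zero.1 hr)

theorem isPGroup_two_of_forall_odd {X : Type*} [Group X] [Finite X] (h : ∀ α : X, Odd (orderOf α) → α = 1) :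
    IsPGroup 2 X := fun α => by
  obtain ⟨k, hk⟩ := exists_odd_pow α
  exact ⟨k, h _ hk⟩

variable [Finite S] {F : FusionSystem S} {core : Subgroup Ω}

theorem isPGroup_of_not_moves (hA : A ≤ S) (h : ¬ Moves F A) : IsPGroup 2 (F.autGroup A) := by
  haveI := finite_mulAut_of_le hA
  refine isPGroup_two_of_forall_odd fun α hα => ?_
  by_contra hne
  exact h ⟨α, α.2, fun e => hne (Subtype.ext e), by rwa [Subgroup.orderOf_coe]⟩

theorem moves_of_not_isPGroup (hA : A ≤ S) (h : ¬ IsPGroup 2 (F.autGroup A)) : Moves F A :=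
  not_not.1 fun h' => h (isPGroup_of_not_moves hA h')

theorem Candidate.isFullyNormalized (c : Candidate S A core) : F.IsFullyNormalized A :=
  ⟨c.le, fun Q hQ => c.maxNormalizer Q hQ.le_right hQ.nonempty_mulEquiv⟩

theorem Candidate.relIndex_odd (c : Candidate S A core) (hS : IsPGroup 2 S) (hF : F.IsSaturated 2) :
    ¬ 2 ∣ (autInducedBy S A).relIndex (F.autGroup A) := by
  haveI : Fact (Nat.Prime 2) := ⟨Nat.prime_two⟩
  haveI := finite_mulAut_of_le c.le
  obtain ⟨-, R, hR⟩ := hF.isFullyAutomized_of_isFullyNormalized hS (c.isFullyNormalized)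
  rw [Subgroup.relIndex, ← hR]
  exact R.not_dvd_index

theorem Candidate.eq_of_not_moves (c : Candidate S A core) (hS : IsPGroup 2 S) (hF : F.IsSaturated 2)
    (h : ¬ Moves F A) : F.autGroup A = autInducedBy S A := by
  haveI : Fact (Nat.Prime 2) := ⟨Nat.prime_two⟩
  haveI := finite_mulAut_of_le c.le
  refine le_antisymm ?_ (F.autInducedBy_le_autGroup c.le)
  have hodd := c.relIndex_odd hS hF
  obtain ⟨n, hn⟩ := IsPGroup.iff_card.1 (isPGroup_of_not_moves c.le h)
  have hd : (autInducedBy S A).relIndex (F.autGroup A) ∣ 2 ^ n := hn ▸ Subgroup.index_dvd_card _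
  obtain ⟨j, -, hj⟩ := (Nat.dvd_prime_pow Nat.prime_two).1 hd
  rcases Nat.eq_zero_or_pos j with rfl | hj0
  · exact Subgroup.relIndex_eq_one.1 (by simpa using hj)
  · exact absurd (hj ▸ dvd_pow_self 2 hj0.ne') hodd

theorem Candidate.isBig (c : Candidate S A core) (hS : IsPGroup 2 S) (hF : F.IsSaturated 2) (h : Moves F A) :
    IsBig S A (F.autGroup A) :=
  ⟨F.autInducedBy_le_autGroup c.le, c.relIndex_odd hS hF, h⟩

theorem conjHom_range {s : Ω} (A : Subgroup Ω) :
    (conjHom A s).range = A.map (MulAut.conj s).toMonoidHom := by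
  rw [conjHom, MonoidHom.range_comp, Subgroup.range_subtype]

theorem moves_of_isConj {A' : Subgroup Ω} (h : F.IsConj A A') (hm : Moves F A) : Moves F A' := by
  obtain ⟨φ, hφ, hr⟩ := h
  obtain ⟨α, hα, h1, ho⟩ := hm
  refine ⟨MulAut.congr (F.isoOf hφ hr) α, ?_, ?_, ?_⟩
  · rw [← F.autGroup_map_congr hφ hr]
    exact Subgroup.mem_map_of_mem _ hα
  · intro e
    exact h1 ((MulAut.congr (F.isoOf hφ hr)).injective (e.trans (map_one _).symm))
  · rw [MulEquiv.orderOf_eq]
    exact ho

end RankTwo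

end FusionSystem

end Cfsg
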