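import Cfsg.Agent.Lib.Fusion.RankTwoReal.Candidate
import Cfsg.Agent.Lib.Transfer

/-!
Systems determined by two candidates: agreement, index two subgroups of realizing groups.
-/

set_option autoImplicit false

open scoped commutatorElement

namespace Cfsg

namespace FusionSystem

namespace RankTwo

universe u v

variable {Ω : Type u} [Group Ω] {S A B cA cB : Subgroup Ω}

/-- Every centric proper subgroup with an automorphism of odd order is `S`-conjugate to `A` or `B`. -/
structure IsFrame (S A cA B cB : Subgroup Ω) : Prop where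
  candA : Candidate S A cA
  candB : Candidate S B cB
  cover : ∀ P : Subgroup Ω, P < S → centralizerIn S P ≤ P → ¬ IsPGroup 2 (MulAut P) →
    ∃ s ∈ S, A.map (MulAut.conj s).toMonoidHom = P ∨ B.map (MulAut.conj s).toMonoidHom = P
  autS : IsPGroup 2 (MulAut S)

/-- The derived subgroup of `S` inside `Ω`. -/
def derivedIn (S : Subgroup Ω) : Subgroup Ω := (commutator S).map S.subtype

theorem commutator_mem_derivedIn {a b : Ω} (ha : a ∈ S) (hb : b ∈ S) : a * b * a⁻¹ * b⁻¹ ∈ derivedIn S :=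
  ⟨⟨a, ha⟩ * ⟨b, hb⟩ * ⟨a, ha⟩⁻¹ * ⟨b, hb⟩⁻¹, by
    rw [← commutatorElement_def]
    exact Subgroup.commutator_mem_commutator (Subgroup.mem_top _) (Subgroup.mem_top _), rfl⟩

variable [Finite S]

variable {F E : FusionSystem S}

theorem not_isPGroup_mulAut_of_essential (hP : F.IsEssential 2 A) : ¬ IsPGroup 2 (MulAut A) := by
  intro h
  haveI : Fact (Nat.Prime 2) := ⟨Nat.prime_two⟩
  obtain ⟨hc, -, hn, Y, hY⟩ := hP
  haveI := hn
  haveI := finite_mulAut_of_le hc.1
  have hq : IsPGroup 2 (F.autGroup A ⧸ (Inn A).subgroupOf (F.autGroup A)) :=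
    IsPGroup.to_quotient (h.to_subgroup (F.autGroup A)) _
  have htop := IsStronglyPEmbedded.eq_bot_of_normal_pGroup hY ⊤ (hq.to_subgroup ⊤)
  have h2 := hY.1
  rw [← Subgroup.card_top, htop, Subgroup.card_bot] at h2
  exact absurd h2 (by norm_num)

theorem IsFrame.cover_of_isEssential (fr : IsFrame S A cA B cB) (hS : IsPGroup 2 S) (hF : F.IsSaturated 2)
    {P : Subgroup Ω} (hP : F.IsEssential 2 P) :
    ∃ s ∈ S, A.map (MulAut.conj s).toMonoidHom = P ∨ B.map (MulAut.conj s).toMonoidHom = P :=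
  haveI : Fact (Nat.Prime 2) := ⟨Nat.prime_two⟩
  fr.cover P (IsEssential.lt hS hF hP) (hP.1.2 P (F.isConj_refl hP.1.1)) (not_isPGroup_mulAut_of_essential hP)

omit [Finite S] in
theorem isConj_conj (hA : A ≤ S) {s : Ω} (hs : s ∈ S) {P : Subgroup Ω} (h : A.map (MulAut.conj s).toMonoidHom = P) :
    F.IsConj A P :=
  ⟨_, F.conj_mem hA hs, (conjHom_range A).trans h⟩

theorem IsFrame.essential_three (fr : IsFrame S A cA B cB) (hS : IsPGroup 2 S) (hF : F.IsSaturated 2)
    (E₁ E₂ E₃ : Subgroup Ω) (h₁ : F.IsEssential 2 E₁) (h₂ : F.IsEssential 2 E₂) (h₃ : F.IsEssential 2 E₃) :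
    (∃ φ ∈ F.Hom E₁, φ.range = E₂) ∨ (∃ φ ∈ F.Hom E₁, φ.range = E₃) ∨ (∃ φ ∈ F.Hom E₂, φ.range = E₃) := by
  have key : ∀ {X Y Z : Subgroup Ω}, Z ≤ S → ∀ {s t : Ω}, s ∈ S → t ∈ S →
      Z.map (MulAut.conj s).toMonoidHom = X → Z.map (MulAut.conj t).toMonoidHom = Y → F.IsConj X Y := by
    intro X Y Z hZ s t hs ht hX hY
    exact IsConj.trans (isConj_conj hZ hs hX).symm (isConj_conj hZ ht hY)
  obtain ⟨s₁, hs₁, e₁⟩ := fr.cover_of_isEssential hS hF h₁
  obtain ⟨s₂, hs₂, e₂⟩ := fr.cover_of_isEssential hS hF h₂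
  obtain ⟨s₃, hs₃, e₃⟩ := fr.cover_of_isEssential hS hF h₃
  have hA := fr.candA.le
  have hB := fr.candB.le
  rcases e₁ with e₁ | e₁ <;> rcases e₂ with e₂ | e₂ <;> rcases e₃ with e₃ | e₃ <;>
    first
    | exact Or.inl (key hA hs₁ hs₂ e₁ e₂)
    | exact Or.inl (key hB hs₁ hs₂ e₁ e₂)
    | exact Or.inr (Or.inl (key hA hs₁ hs₃ e₁ e₃))
    | exact Or.inr (Or.inl (key hB hs₁ hs₃ e₁ e₃))
    | exact Or.inr (Or.inr (key hA hs₂ hs₃ e₂ e₃))
    | exact Or.inr (Or.inr (key hB hs₂ hs₃ e₂ e₃))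

theorem autGroup_self_eq (fr : IsFrame S A cA B cB) (hS : IsPGroup 2 S) (hF : F.IsSaturated 2) :
    F.autGroup S = autInducedBy S S := by
  haveI : Fact (Nat.Prime 2) := ⟨Nat.prime_two⟩
  haveI := finite_mulAut_of_le (le_refl S)
  haveI : Finite (normalizerIn S S) := finite_normalizerIn
  have hn : F.IsFullyNormalized S := ⟨le_rfl, fun Q hQ =>
    Nat.card_le_card_of_injective (β := normalizerIn S S) (Subgroup.inclusion (normalizerIn_le.trans (le_normalizerIn le_rfl)))
      (Subgroup.inclusion_injective _)⟩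
  obtain ⟨-, R, hR⟩ := hF.isFullyAutomized_of_isFullyNormalized hS hn
  refine le_antisymm ?_ (F.autInducedBy_le_autGroup le_rfl)
  have htop : (R : Subgroup (F.autGroup S)) = ⊤ :=
    (R.is_maximal' ((fr.autS.to_subgroup _).to_subgroup ⊤) le_top).symm
  rw [hR, Subgroup.subgroupOf_eq_top] at htop
  exact htop

/-- Two saturated systems agreeing on the candidates are equal. -/
theorem IsFrame.le_of_agree (fr : IsFrame S A cA B cB) (hS : IsPGroup 2 S) (hF : F.IsSaturated 2)
    (hE : E.IsSaturated 2) (hA : F.autGroup A = E.autGroup A) (hB : F.autGroup B = E.autGroup B) : F ≤ E := by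
  haveI : Fact (Nat.Prime 2) := ⟨Nat.prime_two⟩
  refine hF.le_of_autGroup_le hS E fun P hP => ?_
  rcases hP with rfl | hP
  · rw [autGroup_self_eq fr hS hF]
    exact E.autInducedBy_le_autGroup le_rfl
  obtain ⟨s, hs, e⟩ := fr.cover_of_isEssential hS hF hP
  have key : ∀ C : Subgroup Ω, C ≤ S → C.map (MulAut.conj s).toMonoidHom = P → F.autGroup C = E.autGroup C →
      F.autGroup P ≤ E.autGroup P := by
    intro C hC hCP hCe
    have hr : (conjHom C s).range = P := (conjHom_range C).trans hCP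
    rw [← F.autGroup_map_congr (F.conj_mem hC hs) hr, ← E.autGroup_map_congr (E.conj_mem hC hs) hr, hCe]
    exact le_rfl
  rcases e with e | e
  · exact key A fr.candA.le e hA
  · exact key B fr.candB.le e hB

theorem IsFrame.realizedBy_of_agree (fr : IsFrame S A cA B cB) (hS : IsPGroup 2 S) (hF : F.IsSaturated 2)
    {G : Type v} [Group G] [Finite G] (ι : S →* G) (hι : Function.Injective ι) (T : Sylow 2 G)
    (hT : (T : Subgroup G) = ι.range) (hA : F.autGroup A = (pullbackSystem ι hι).autGroup A)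
    (hB : F.autGroup B = (pullbackSystem ι hι).autGroup B) : F.IsRealizedBy ι := by
  haveI : Fact (Nat.Prime 2) := ⟨Nat.prime_two⟩
  have hE := pullbackSystem_isSaturated ι hι T hT
  exact isRealizedBy_of_le ι hι (fr.le_of_agree hS hF hE hA hB) (fr.le_of_agree hS hE hF hA.symm hB.symm)

/-- The maps moving elements only within a subgroup containing the derived group. -/
def diffSystem (S W : Subgroup Ω) (hW : derivedIn S ≤ W) : FusionSystem S where
  Hom P := {φ | P ≤ S ∧ (∀ x : P, φ x ∈ S) ∧ Function.Injective φ ∧ ∀ x : P, (x : Ω)⁻¹ * φ x ∈ W}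
  le_of_mem h := ⟨h.1, h.2.1⟩
  injective_of_mem h := h.2.2.1
  conj_mem := by
    intro P g hP hg
    refine ⟨hP, fun x => S.mul_mem (S.mul_mem hg (hP x.2)) (S.inv_mem hg), fun a b h => ?_, fun x => ?_⟩
    · have h' : g * (a : Ω) * g⁻¹ = g * b * g⁻¹ := h
      exact Subtype.ext (mul_left_cancel (mul_right_cancel h'))
    · show (x : Ω)⁻¹ * (g * x * g⁻¹) ∈ W
      have := hW (commutator_mem_derivedIn (S := S) (S.inv_mem (hP x.2)) hg)
      rwa [inv_inv, show (x : Ω)⁻¹ * g * x * g⁻¹ = (x : Ω)⁻¹ * (g * x * g⁻¹) by group] at this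
  comp_mem := by
    rintro P Q φ ψ ⟨hP, hφ, hφi, hd⟩ ⟨-, hψ, hψi, hd'⟩ h
    refine ⟨hP, fun x => hψ _, fun a b hab => hφi ?_, fun x => ?_⟩
    · exact congrArg Subtype.val (hψi hab)
    · have := W.mul_mem (hd x) (hd' ⟨φ x, h x⟩)
      rwa [show (x : Ω)⁻¹ * φ x * ((φ x)⁻¹ * ψ ⟨φ x, h x⟩) = (x : Ω)⁻¹ * ψ ⟨φ x, h x⟩ by group] at this
  inv_mem := by
    rintro P φ ⟨hP, hφ, hφi, hd⟩
    let e := MonoidHom.ofInjective hφi
    have he : ∀ x : P, e.symm ⟨φ x, x, rfl⟩ = x := fun x => e.symm_apply_apply x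
    refine ⟨P.subtype.comp e.symm.toMonoidHom, ⟨?_, fun y => hP (SetLike.coe_mem _),
      fun a b h => e.symm.injective (Subtype.ext h), fun y => ?_⟩, fun x => congrArg Subtype.val (he x)⟩
    · rintro _ ⟨x, rfl⟩
      exact hφ x
    · obtain ⟨_, x, rfl⟩ := y
      show (φ x)⁻¹ * ((e.symm ⟨φ x, x, rfl⟩ : P) : Ω) ∈ W
      rw [he]
      have := W.inv_mem (hd x)
      rwa [mul_inv_rev, inv_inv] at this

omit [Finite S] in
theorem mem_diffSystem_autGroup {W : Subgroup Ω} (hW : derivedIn S ≤ W) (hA : A ≤ S) {α : MulAut A} :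
    α ∈ (diffSystem S W hW).autGroup A ↔ ∀ a : A, ((a⁻¹ * α a : A) : Ω) ∈ W := by
  rw [(diffSystem S W hW).mem_autGroup_iff hA]
  constructor
  · rintro ⟨-, -, -, h⟩ a
    exact h a
  · intro h
    exact ⟨hA, fun x => hA (α x).2, fun a b hab => α.injective (Subtype.ext hab), h⟩

theorem Candidate.autGroup_le_diffSystem {core : Subgroup Ω} (c : Candidate S A core) (hS : IsPGroup 2 S)
    (hF : F.IsSaturated 2) {W : Subgroup Ω} (hW : derivedIn S ≤ W) (hm : Moves F A → core ≤ W) :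
    F.autGroup A ≤ (diffSystem S W hW).autGroup A := by
  haveI : Fact (Nat.Prime 2) := ⟨Nat.prime_two⟩
  haveI := finite_mulAut_of_le c.le
  by_cases h : Moves F A
  swap
  · rw [c.eq_of_not_moves hS hF h]
    exact (diffSystem S W hW).autInducedBy_le_autGroup c.le
  intro α hα
  let D := (diffSystem S W hW).autGroup A ⊓ F.autGroup A
  have hodd : ∀ β ∈ F.autGroup A, Odd (orderOf β) → β ∈ D := fun β hβ ho =>
    ⟨(mem_diffSystem_autGroup hW c.le).2 fun a => hm h (c.diff β ho a), hβ⟩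
  have hD : D.relIndex (F.autGroup A) = 1 := by
    by_contra hne
    obtain ⟨q, hq, hqd⟩ := Nat.exists_prime_and_dvd hne
    have hle : autInducedBy S A ≤ D :=
      le_inf ((diffSystem S W hW).autInducedBy_le_autGroup c.le) (F.autInducedBy_le_autGroup c.le)
    have hq2 : q ≠ 2 := by
      rintro rfl
      exact c.relIndex_odd hS hF (hqd.trans (Subgroup.relIndex_dvd_of_le_left _ hle))
    haveI : Fact q.Prime := ⟨hq⟩
    obtain ⟨Q⟩ : Nonempty (Sylow q (F.autGroup A)) := inferInstance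
    refine Q.not_dvd_index (hqd.trans (Subgroup.index_dvd_of_le fun x hx => ?_))
    obtain ⟨k, hk⟩ := Q.2 ⟨x, hx⟩
    refine hodd _ x.2 ?_
    show Odd (orderOf (x : MulAut A))
    rw [Subgroup.orderOf_coe]
    have hx1 : x ^ q ^ k = 1 := congrArg Subtype.val hk
    exact ((hq.odd_of_ne_two hq2).pow (n := k)).of_dvd_nat (orderOf_dvd_of_pow_eq_one hx1)
  exact (Subgroup.relIndex_eq_one.1 hD hα).1

theorem IsFrame.le_diffSystem (fr : IsFrame S A cA B cB) (hS : IsPGroup 2 S) (hF : F.IsSaturated 2)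
    {W : Subgroup Ω} (hW : derivedIn S ≤ W) (hA : Moves F A → cA ≤ W) (hB : Moves F B → cB ≤ W) :
    F ≤ diffSystem S W hW := by
  haveI : Fact (Nat.Prime 2) := ⟨Nat.prime_two⟩
  refine hF.le_of_autGroup_le hS _ fun P hP => ?_
  rcases hP with rfl | hP
  · rw [autGroup_self_eq fr hS hF]
    exact (diffSystem P W hW).autInducedBy_le_autGroup le_rfl
  obtain ⟨s, hs, e⟩ := fr.cover_of_isEssential hS hF hP
  have key : ∀ C : Subgroup Ω, C ≤ S → C.map (MulAut.conj s).toMonoidHom = P →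
      F.autGroup C ≤ (diffSystem S W hW).autGroup C → F.autGroup P ≤ (diffSystem S W hW).autGroup P := by
    intro C hC hCP hCe
    have hr : (conjHom C s).range = P := (conjHom_range C).trans hCP
    rw [← F.autGroup_map_congr (F.conj_mem hC hs) hr,
      ← (diffSystem S W hW).autGroup_map_congr ((diffSystem S W hW).conj_mem hC hs) hr]
    exact Subgroup.map_mono hCe
  rcases e with e | e
  · exact key A fr.candA.le e (fr.candA.autGroup_le_diffSystem hS hF hW hA)
  · exact key B fr.candB.le e (fr.candB.autGroup_le_diffSystem hS hF hW hB)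

section Group

variable {G : Type v} [Group G] [Finite G] {ι : S →* G} {hι : Function.Injective ι}

omit [Finite S] in
theorem Candidate.core_le_of_moves [Finite A] {core : Subgroup Ω} (c : Candidate S A core)
    (hm : Moves (pullbackSystem ι hι) A) {K : Subgroup G} (hK : commutator G ≤ K) :
    core ≤ (K.comap ι).map S.subtype := by
  obtain ⟨α, hα, h1, ho⟩ := hm
  obtain ⟨g, hg⟩ := (mem_pullback_autGroup ι hι c.le).1 hα
  refine (c.moves α ho h1).trans ((Subgroup.closure_le _).2 ?_)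
  rintro w ⟨a, rfl⟩
  refine ⟨⟨a, c.le a.2⟩⁻¹ * ⟨α a, c.le (α a).2⟩, ?_, rfl⟩
  show ι _ ∈ K
  rw [map_mul, map_inv, hg a]
  set y := ι ⟨a, c.le a.2⟩
  rw [show y⁻¹ * (g * y * g⁻¹) = y⁻¹ * g * y * g⁻¹ by group]
  have h2 : ⁅y⁻¹, g⁆ ∈ commutator G := Subgroup.commutator_mem_commutator (Subgroup.mem_top _) (Subgroup.mem_top _)
  rw [commutatorElement_def, inv_inv] at h2
  exact hK h2

variable (T : Sylow 2 G) (hT : (T : Subgroup G) = ι.range)

include hT in
/-- A realizing group with a subgroup of index two cannot move both candidates generating `S`. -/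
theorem IsFrame.not_both (fr : IsFrame S A cA B cB) (hgen : S ≤ cA ⊔ cB ⊔ derivedIn S) {K : Subgroup G}
    (hK : K.index = 2) : ¬ (Moves (pullbackSystem ι hι) A ∧ Moves (pullbackSystem ι hι) B) := by
  rintro ⟨hA, hB⟩
  haveI : Finite A := finite_of_le fr.candA.le
  haveI : Finite B := finite_of_le fr.candB.le
  haveI := Subgroup.normal_of_index_eq_two hK
  haveI : Fact (Nat.Prime 2) := ⟨Nat.prime_two⟩
  have hK' : commutator G ≤ K := by
    haveI : IsCyclic (G ⧸ K) := isCyclic_of_prime_card (p := 2) hK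
    exact Subgroup.Normal.quotient_commutative_iff_commutator_le.mp inferInstance
  have hd : derivedIn S ≤ (K.comap ι).map S.subtype := by
    refine Subgroup.map_mono ?_
    rw [commutator_def, Subgroup.commutator_le]
    intro a _ b _
    show ι ⁅a, b⁆ ∈ K
    rw [map_commutatorElement]
    exact hK' (Subgroup.commutator_mem_commutator (Subgroup.mem_top _) (Subgroup.mem_top _))
  have hle : (ι.range : Subgroup G) ≤ K := by
    rintro _ ⟨s, rfl⟩
    obtain ⟨t, ht, e⟩ := (hgen.trans (sup_le (sup_le (fr.candA.core_le_of_moves hA hK')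
      (fr.candB.core_le_of_moves hB hK')) hd)) s.2
    rwa [← show t = s from Subtype.ext e]
  have h2 : K.index ∣ (T : Subgroup G).index := Subgroup.index_dvd_of_le (hT ▸ hle)
  rw [hK] at h2
  exact T.not_dvd_index h2

include hT in
/-- Without a subgroup of index two, a candidate moves unless the rest lies in a proper subgroup. -/
theorem IsFrame.moves_of_no_index_two (fr : IsFrame S A cA B cB) (hS : IsPGroup 2 S)
    (hW : ¬ S ≤ cB ⊔ derivedIn S) (hG : ∀ K : Subgroup G, K.index ≠ 2) :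
    Moves (pullbackSystem ι hι) A := by
  haveI : Fact (Nat.Prime 2) := ⟨Nat.prime_two⟩
  by_contra hm
  apply hW
  have hle := fr.le_diffSystem hS (pullbackSystem_isSaturated ι hι T hT) (W := cB ⊔ derivedIn S) le_sup_right
    (fun h => absurd h hm) (fun _ => le_sup_left)
  have htop : (T : Subgroup G).focalSubgroup = T := by
    refine CfsgLib.Transfer.focalSubgroup_eq_of_pResidual_eq_top T ?_
    by_contra hne
    obtain ⟨n, hn⟩ := IsPGroup.iff_card.1 (CfsgLib.Transfer.isPGroup_quotient_pResidual (p := 2) (G := G))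
    haveI : Nontrivial (G ⧸ Cfsg.pResidual 2 G) :=
      Finite.one_lt_card_iff_nontrivial.1 (lt_of_le_of_ne Nat.card_pos fun h => hne (Subgroup.index_eq_one.1 h.symm))
    have hn0 : n ≠ 0 := by
      rintro rfl
      exact (Finite.one_lt_card (α := G ⧸ Cfsg.pResidual 2 G)).ne' (by simpa using hn)
    obtain ⟨M, hM⟩ := Sylow.exists_subgroup_card_pow_prime 2 (n := n - 1)
      (G := G ⧸ Cfsg.pResidual 2 G) (hn ▸ pow_dvd_pow 2 (Nat.sub_le n 1))
    refine hG (M.comap (QuotientGroup.mk' _)) ?_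
    rw [Subgroup.index_comap_of_surjective _ (QuotientGroup.mk'_surjective _)]
    have h := M.card_mul_index
    rw [hn, hM] at h
    refine Nat.eq_of_mul_eq_mul_left (pow_pos two_pos (n - 1)) ?_
    rw [h, ← pow_succ, Nat.sub_add_cancel (Nat.pos_of_ne_zero hn0)]
  intro s hs
  have hfoc : (T : Subgroup G).focalSubgroup ≤ ((cB ⊔ derivedIn S).subgroupOf S).map ι := by
    rw [Subgroup.focalSubgroup_def, Subgroup.closure_le]
    rintro _ ⟨hz, x, hx, u, rfl⟩
    have hxT : x ∈ ι.range := hT ▸ hx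
    have hyT : (u * x⁻¹ * u⁻¹) ∈ ι.range := by
      rw [← hT]
      have : x⁻¹ * ⁅x, u⁆ ∈ (T : Subgroup G) := Subgroup.mul_mem _ (Subgroup.inv_mem _ hx) hz
      rwa [commutatorElement_def, show x⁻¹ * (x * u * x⁻¹ * u⁻¹) = u * x⁻¹ * u⁻¹ by group] at this
    obtain ⟨a, ha⟩ := hxT
    obtain ⟨b, hb⟩ := hyT
    let P : Subgroup Ω := Subgroup.zpowers (a : Ω)
    have hP : P ≤ S := by simpa [P, Subgroup.zpowers_le] using a.2
    have hmem : ∀ y : P, ∃ c : S, ι c = u * ι ⟨y, hP y.2⟩ * u⁻¹ := by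
      rintro ⟨y, k, rfl⟩
      refine ⟨b⁻¹ ^ k, ?_⟩
      rw [map_zpow, map_inv, hb, show (⟨(a : Ω) ^ k, _⟩ : S) = a ^ k from Subtype.ext (by simp), map_zpow, ha,
        ← conj_zpow]
      congr 1
      group
    choose c hc using hmem
    let φ : P →* Ω := MonoidHom.mk' (fun y => ((c y : S) : Ω)) fun y y' => by
      rw [← Subgroup.coe_mul]
      congr 1
      refine hι ?_
      rw [map_mul, hc, hc, hc, show (⟨((y * y' : P) : Ω), hP (y * y').2⟩ : S) = ⟨y, hP y.2⟩ * ⟨y', hP y'.2⟩ from rfl,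
        map_mul]
      group
    have hφ : φ ∈ (pullbackSystem ι hι).Hom P := ⟨hP, fun y => (c y).2, u, fun y => hc y⟩
    obtain ⟨-, -, -, hd⟩ := hle P hφ
    have hai : (a : Ω)⁻¹ ∈ P := Subgroup.inv_mem _ (Subgroup.mem_zpowers _)
    refine ⟨a * c ⟨_, hai⟩, ?_, ?_⟩
    · show ((a * c ⟨_, hai⟩ : S) : Ω) ∈ cB ⊔ derivedIn S
      have h1 := hd ⟨_, hai⟩
      rw [inv_inv] at h1
      exact h1
    · show ι (a * c ⟨_, hai⟩) = ⁅x, u⁆
      rw [map_mul, hc, commutatorElement_def, show (⟨((⟨_, hai⟩ : P) : Ω), hP hai⟩ : S) = a⁻¹ from rfl, map_inv, ha]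
      group
  have hsT : ι ⟨s, hs⟩ ∈ (T : Subgroup G) := hT ▸ ⟨_, rfl⟩
  rw [← htop] at hsT
  obtain ⟨t, ht, he⟩ := hfoc hsT
  rw [show t = ⟨s, hs⟩ from hι he] at ht
  exact ht

include hT in
/-- A realizing group of the inner system has a normal 2-complement. -/
theorem hasNormalPComplement_of_le_inner (hle : pullbackSystem ι hι ≤ innerFusionSystem S) :
    Cfsg.HasNormalPComplement 2 G := by
  haveI : Fact (Nat.Prime 2) := ⟨Nat.prime_two⟩
  refine CfsgLib.Transfer.hasNormalPComplement_of_control T fun x hx g hg => ?_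
  rw [hT] at hx hg
  obtain ⟨a, rfl⟩ := hx
  obtain ⟨b, hb⟩ := hg
  let P : Subgroup Ω := Subgroup.zpowers (a : Ω)
  have hP : P ≤ S := by simpa [P, Subgroup.zpowers_le] using a.2
  have hmem : ∀ y : P, ∃ c : S, ι c = g * ι ⟨y, hP y.2⟩ * g⁻¹ := by
    rintro ⟨y, k, rfl⟩
    refine ⟨b ^ k, ?_⟩
    rw [map_zpow, hb, show (⟨(a : Ω) ^ k, _⟩ : S) = a ^ k from Subtype.ext (by simp), map_zpow, ← conj_zpow]
  choose c hc using hmem
  let φ : P →* Ω := MonoidHom.mk' (fun y => ((c y : S) : Ω)) fun y y' => by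
    rw [← Subgroup.coe_mul]
    congr 1
    refine hι ?_
    rw [map_mul, hc, hc, hc, show (⟨((y * y' : P) : Ω), hP (y * y').2⟩ : S) = ⟨y, hP y.2⟩ * ⟨y', hP y'.2⟩ from rfl,
      map_mul]
    group
  have hφ : φ ∈ (pullbackSystem ι hι).Hom P := ⟨hP, fun y => (c y).2, g, fun y => hc y⟩
  obtain ⟨-, s, hs, hse⟩ := hle P hφ
  refine ⟨ι ⟨s, hs⟩, hT ▸ ⟨_, rfl⟩, ?_⟩
  have h1 := hse ⟨a, Subgroup.mem_zpowers _⟩
  rw [← map_inv, ← map_mul, ← map_mul, ← hc ⟨a, Subgroup.mem_zpowers _⟩]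
  exact congrArg ι (Subtype.ext h1.symm)

include hT in
theorem IsFrame.moves_some (fr : IsFrame S A cA B cB) (hS : IsPGroup 2 S)
    (hG : ¬ Cfsg.HasNormalPComplement 2 G) :
    Moves (pullbackSystem ι hι) A ∨ Moves (pullbackSystem ι hι) B := by
  haveI : Fact (Nat.Prime 2) := ⟨Nat.prime_two⟩
  by_contra h
  push Not at h
  apply hG
  refine hasNormalPComplement_of_le_inner (ι := ι) (hι := hι) T hT ?_
  have hsat := pullbackSystem_isSaturated ι hι T hT
  have hin := innerFusionSystem_isSaturated S 2 hS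
  exact fr.le_of_agree hS hsat hin
    ((fr.candA.eq_of_not_moves hS hsat h.1).trans (autGroup_innerFusionSystem fr.candA.le).symm)
    ((fr.candB.eq_of_not_moves hS hsat h.2).trans (autGroup_innerFusionSystem fr.candB.le).symm)

end Group

end RankTwo

end FusionSystem

end Cfsg
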