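import Cfsg.Agent.Lib.Fusion.RankTwoReal.Internal
import Cfsg.Agent.Lib.QuatAut
import Cfsg.Agent.Lib.LocalFusionExtra
import Mathlib.GroupTheory.SpecificGroups.Cyclic

/-!
The frame of a generalized quaternion group: the two classes of quaternion subgroups of order eight.
-/

set_option autoImplicit false

namespace Cfsg

namespace FusionSystem

namespace RankTwo

open QuaternionGroup

/-! ### Facts about the quaternion group of order eight -/

theorem isCyclic_of_ne_top_q8 {V : Type*} [Group V] (e : V ≃* QuaternionGroup 2) (C : Subgroup V) (hC : C ≠ ⊤) :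
    IsCyclic C := by
  haveI : Finite V := Finite.of_equiv _ e.symm.toEquiv
  haveI : Fact (Nat.Prime 2) := ⟨Nat.prime_two⟩
  have h8 : Nat.card V = 2 ^ 3 := by rw [Nat.card_congr e.toEquiv, CfsgLib.Quat.nat_card]; rfl
  obtain ⟨j, hj, hc⟩ := (Nat.dvd_prime_pow Nat.prime_two).1 (h8 ▸ Subgroup.card_subgroup_dvd_card C)
  have h3 : j ≠ 3 := fun h => hC (Subgroup.eq_top_of_card_eq C (by rw [hc, h, h8]))
  rcases (show j = 0 ∨ j = 1 ∨ j = 2 by omega) with rfl | rfl | rfl
  · haveI : Subsingleton C := (Nat.card_eq_one_iff_unique.1 (by simpa using hc)).1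
    infer_instance
  · exact isCyclic_of_prime_card (p := 2) (by simpa using hc)
  · by_contra hcyc
    have hsq : ∀ x : C, e x * e x = 1 := fun x => by
      obtain ⟨i, hi, ho⟩ := (Nat.dvd_prime_pow Nat.prime_two).1 (hc ▸ orderOf_dvd_natCard x)
      have : i ≠ 2 := fun h => hcyc (isCyclic_of_orderOf_eq_card x (by rw [ho, h, hc]))
      have h2 : x ^ 2 = 1 := orderOf_dvd_iff_pow_eq_one.1 (ho ▸ pow_dvd_pow 2 (show i ≤ 1 by omega) |>.trans (dvd_refl _))
      rw [← map_mul, ← sq, ← map_one e, ← OneMemClass.coe_one C, ← h2]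
      rfl
    have hle : Nat.card C ≤ Fintype.card {q : QuaternionGroup 2 // q * q = 1} := by
      rw [← Nat.card_eq_fintype_card]
      exact Nat.card_le_card_of_injective (fun x : C => (⟨e x, hsq x⟩ : {q : QuaternionGroup 2 // q * q = 1}))
        fun a b h => Subtype.ext (e.injective (congrArg Subtype.val h))
    rw [hc, show Fintype.card {q : QuaternionGroup 2 // q * q = 1} = 2 by decide] at hle
    omega

theorem card_mulAut_q8_le {V : Type*} [Group V] (e : V ≃* QuaternionGroup 2) : Nat.card (MulAut V) ≤ 24 :=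
  (Nat.card_congr (MulAut.congr e).toEquiv).le.trans CfsgLib.Quat.card_aut_le

theorem card_centralizer_q8 {X : Type*} [Group X] {A : Subgroup X} (e : A ≃* QuaternionGroup 2)
    (hc : Subgroup.centralizer (A : Set X) ≤ A) : Nat.card (Subgroup.centralizer (A : Set X)) = 2 := by
  haveI : Finite A := Finite.of_equiv _ e.symm.toEquiv
  have heq : Subgroup.centralizer (A : Set X) = (Subgroup.center A).map A.subtype := by
    ext x
    constructor
    · intro hx
      exact ⟨⟨x, hc hx⟩, Subgroup.mem_center_iff.2 fun g => Subtype.ext (hx g g.2), rfl⟩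
    · rintro ⟨a, ha, rfl⟩ g hg
      exact congrArg Subtype.val (Subgroup.mem_center_iff.1 ha ⟨g, hg⟩)
  have h1 := (Subgroup.center A).card_mul_index
  rw [CfsgLib.LocalFusion.q8_center_index e, CfsgLib.Quat.card_of_q8 e] at h1
  rw [heq, ← Nat.card_congr ((Subgroup.center A).equivMapOfInjective _ A.subtype_injective).toEquiv]
  omega

theorem isPGroup_mulAut_of_cyclic {P : Type*} [Group P] [Finite P] [IsCyclic P] (hP : IsPGroup 2 P) :
    IsPGroup 2 (MulAut P) := by
  refine CfsgLib.Wr.isPGroup_mulAut_of fun α hα => ?_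
  obtain ⟨g, hg⟩ := IsCyclic.exists_zpow_surjective (G := P)
  obtain ⟨k, hk⟩ := hg (α g)
  have hfix := CfsgLib.Wr.fix_of_mem_zpowers hP hα g ⟨k, hk⟩
  refine MulEquiv.ext fun x => ?_
  obtain ⟨l, rfl⟩ := hg x
  show α (g ^ l) = g ^ l
  rw [map_zpow, hfix]

/-! ### The generalized quaternion group -/

variable {n h : ℕ}

theorem half_add_half_q (hn : n = 2 * h) : (h : ZMod (2 * n)) + h = n := by
  rw [← Nat.cast_add, hn, two_mul h]

theorem n_add_n : (n : ZMod (2 * n)) + n = 0 := by
  rw [← Nat.cast_add, ← two_mul, ZMod.natCast_self]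

theorem four_mul_eq_zero (hn : n = 2 * h) {j : ZMod (2 * n)} [NeZero n] (hj : 4 * j = 0) :
    ∃ t : ℤ, j = t * h := by
  haveI : NeZero (2 * n) := ⟨by have := NeZero.ne n; omega⟩
  have h1 : 2 * n ∣ 4 * j.val := by
    rw [← ZMod.natCast_eq_zero_iff, Nat.cast_mul, ZMod.natCast_zmod_val]
    exact_mod_cast hj
  obtain ⟨t, ht⟩ : h ∣ j.val := by
    obtain ⟨t, ht⟩ := h1
    refine ⟨t, ?_⟩
    have e : 2 * n * t = 4 * (h * t) := by rw [hn]; ring
    omega
  exact ⟨t, by rw [← ZMod.natCast_zmod_val j, ht]; push_cast; ring⟩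

/-- The quaternion subgroup through `xa i`. -/
def quatAt (hn : n = 2 * h) (i : ZMod (2 * n)) : Subgroup (QuaternionGroup n) where
  carrier := {x | match x with
    | a j => ∃ t : ℤ, j = t * h
    | xa j => ∃ t : ℤ, j = i + t * h}
  one_mem' := ⟨0, by simp⟩
  mul_mem' := by
    have hh := half_add_half_q hn
    rintro (x | x) (y | y) ⟨s, rfl⟩ ⟨t, rfl⟩
    · exact ⟨s + t, by push_cast; ring⟩
    · exact ⟨t - s, by push_cast; ring⟩
    · exact ⟨s + t, by push_cast; ring⟩
    · exact ⟨2 + t - s, by push_cast; linear_combination -hh⟩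
  inv_mem' := by
    have hh := half_add_half_q hn
    rintro (x | x) ⟨t, rfl⟩
    · exact ⟨-t, by push_cast; ring⟩
    · exact ⟨2 + t, by push_cast; linear_combination -hh⟩

section

variable {k : ℕ} (hn : n = 2 * h)

theorem a_mem_quatAt {i j : ZMod (2 * n)} : a j ∈ quatAt hn i ↔ ∃ t : ℤ, j = t * h := Iff.rfl

theorem xa_mem_quatAt {i j : ZMod (2 * n)} : xa j ∈ quatAt hn i ↔ ∃ t : ℤ, j = i + t * h := Iff.rfl

include hn in
theorem orderOf_a_h [NeZero n] : orderOf (a (h : ZMod (2 * n)) : QuaternionGroup n) = 2 ^ (1 + 1) := by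
  haveI : Fact (Nat.Prime 2) := ⟨Nat.prime_two⟩
  have hne := NeZero.ne n
  refine orderOf_eq_prime_pow ?_ ?_
  · rw [pow_one, sq, a_mul_a, one_def, a.injEq, half_add_half_q hn, ZMod.natCast_eq_zero_iff]
    intro hd
    have := Nat.le_of_dvd (Nat.pos_of_ne_zero hne) hd
    omega
  · rw [show 2 ^ (1 + 1) = 2 * 2 from rfl, pow_mul, sq (a _), a_mul_a, half_add_half_q hn, sq, a_mul_a, n_add_n, one_def]

theorem quatAt_eq_closure [NeZero n] (i : ZMod (2 * n)) :
    quatAt hn i = Subgroup.closure {a (h : ZMod (2 * n)), xa i} := by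
  refine le_antisymm ?_ ((Subgroup.closure_le _).2 ?_)
  · have h0 : a (h : ZMod (2 * n)) ∈ Subgroup.closure {a (h : ZMod (2 * n)), xa i} :=
      Subgroup.subset_closure (Or.inl rfl)
    have h1 : xa i ∈ Subgroup.closure {a (h : ZMod (2 * n)), xa i} := Subgroup.subset_closure (Or.inr rfl)
    have hz : ∀ t : ℕ, a ((t : ZMod (2 * n)) * (h : ZMod (2 * n))) ∈ Subgroup.closure {a (h : ZMod (2 * n)), xa i} := fun t => by
      induction t with
      | zero => rw [Nat.cast_zero, zero_mul]; exact one_mem _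
      | succ t ih => rw [Nat.cast_succ, add_mul, one_mul, ← a_mul_a]; exact mul_mem ih h0
    have hz' : ∀ t : ℤ, a ((t : ZMod (2 * n)) * (h : ZMod (2 * n))) ∈ Subgroup.closure {a (h : ZMod (2 * n)), xa i} := fun t => by
      obtain ⟨t, rfl | rfl⟩ := Int.eq_nat_or_neg t
      · rw [Int.cast_natCast]; exact hz t
      · rw [Int.cast_neg, Int.cast_natCast, neg_mul]; exact InvMemClass.inv_mem (hz t)
    rintro (x | x) ⟨t, rfl⟩
    · exact hz' t
    · rw [← xa_mul_a]
      exact mul_mem h1 (hz' t)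
  · rintro x (rfl | rfl)
    · exact ⟨1, by simp⟩
    · exact ⟨0, by simp⟩

include hn in
theorem quatAt_equiv [NeZero n] (i : ZMod (2 * n)) : Nonempty (quatAt hn i ≃* QuaternionGroup 2) := by
  rw [quatAt_eq_closure]
  have hh := half_add_half_q hn
  refine CfsgLib.Quat.nonempty_equiv ?_ ?_ ?_ (orderOf_a_h hn) ?_
  · rw [← orderOf_dvd_iff_pow_eq_one, orderOf_a_h hn]; rfl
  · rw [xa_mul_xa, sq, a_mul_a, hh, add_sub_cancel_right]
  · rw [mul_inv_eq_iff_eq_mul, xa_mul_a, show (a (h : ZMod (2 * n)) : QuaternionGroup n)⁻¹ = a (-(h : ZMod _)) from rfl,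
      a_mul_xa, sub_neg_eq_add]
  · rintro ⟨t, ht⟩
    have : ∀ t : ℕ, (a (h : ZMod (2 * n)) : QuaternionGroup n) ^ t = a ((t : ZMod (2 * n)) * (h : ZMod (2 * n))) := fun t => by
      induction t with
      | zero => simp
      | succ t ih => rw [pow_succ, ih, a_mul_a]; push_cast; congr 1; ring
    obtain ⟨t, rfl | rfl⟩ := Int.eq_nat_or_neg t
    · change (a (h : ZMod (2 * n)) : QuaternionGroup n) ^ (t : ℤ) = xa i at ht
      rw [zpow_natCast, this] at ht; cases ht
    · change (a (h : ZMod (2 * n)) : QuaternionGroup n) ^ (-(t : ℤ)) = xa i at ht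
      rw [zpow_neg, zpow_natCast, this] at ht; cases ht

theorem centralizer_quatAt [NeZero n] (i : ZMod (2 * n)) :
    Subgroup.centralizer (quatAt hn i : Set (QuaternionGroup n)) ≤ quatAt hn i := by
  intro x hx
  have hne := NeZero.ne n
  have hh := half_add_half_q hn
  have h1 := hx _ ((a_mem_quatAt hn (i := i)).2 ⟨1, by simp⟩ : a (h : ZMod (2 * n)) ∈ quatAt hn i)
  have h2 := hx _ ((xa_mem_quatAt hn (i := i)).2 ⟨0, by simp⟩ : xa i ∈ quatAt hn i)
  cases x with
  | a j =>
    rw [xa_mul_a, a_mul_xa, xa.injEq] at h2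
    have h4 : 4 * j = 0 := by linear_combination 2 * h2
    obtain ⟨t, ht⟩ := four_mul_eq_zero hn h4
    exact ⟨t, ht⟩
  | xa j =>
    rw [a_mul_xa, xa_mul_a, xa.injEq] at h1
    exfalso
    have h0 : (n : ZMod (2 * n)) = 0 := by linear_combination -h1 - hh
    rw [ZMod.natCast_eq_zero_iff] at h0
    have := Nat.le_of_dvd (Nat.pos_of_ne_zero hne) h0
    omega

theorem isPGroup_quaternionGroup (hk : n = 2 ^ (k + 2)) : IsPGroup 2 (QuaternionGroup n) := by
  haveI : NeZero n := ⟨hk ▸ pow_ne_zero _ two_ne_zero⟩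
  exact IsPGroup.of_card (n := k + 4) (by rw [CfsgLib.Quat.nat_card, hk]; ring)

/-- The shapes of subgroups with an automorphism of odd order. -/
theorem quat_cases [NeZero n] (hk : n = 2 ^ (k + 2)) (P : Subgroup (QuaternionGroup n))
    (hA : ¬ IsPGroup 2 (MulAut P)) : ∃ i, P = quatAt hn i := by
  haveI : NeZero (2 * n) := ⟨by have := NeZero.ne n; omega⟩
  have hP : IsPGroup 2 P := (isPGroup_quaternionGroup hk).to_subgroup P
  have hR : IsCyclic (Subgroup.zpowers (a 1 : QuaternionGroup n)) := inferInstance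
  have hmemR : ∀ j : ZMod (2 * n), a j ∈ Subgroup.zpowers (a 1 : QuaternionGroup n) := fun j =>
    ⟨(j.val : ℤ), by show (a 1) ^ (j.val : ℤ) = a j; rw [zpow_natCast, a_one_pow, ZMod.natCast_zmod_val]⟩
  by_cases hbig : ∃ j, a j ∈ P ∧ 4 * j ≠ 0
  · obtain ⟨j, hj, hjj⟩ := hbig
    refine absurd (CfsgLib.Wr.isPGroup_mulAut_of fun α hα => ?_) hA
    let C : Subgroup P := (Subgroup.zpowers (a 1 : QuaternionGroup n)).subgroupOf P
    have hC : ∀ x : P, x ∈ C ↔ ∃ l, (x : QuaternionGroup n) = a l := by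
      intro x
      constructor
      · rintro ⟨t, ht⟩
        have key : ∀ t : ℕ, (a 1 : QuaternionGroup n) ^ t = a (t : ZMod (2 * n)) := fun t => a_one_pow t
        change (a 1) ^ t = (x : QuaternionGroup n) at ht
        obtain ⟨t, rfl | rfl⟩ := Int.eq_nat_or_neg t
        · exact ⟨_, by rw [← ht, zpow_natCast, key]⟩
        · exact ⟨-(t : ZMod (2 * n)), by rw [← ht, zpow_neg, zpow_natCast, key]; rfl⟩
      · rintro ⟨l, hl⟩
        exact Subgroup.mem_subgroupOf.2 (hl ▸ hmemR l)
    have hbase : ∀ x : P, (∃ l, (x : QuaternionGroup n) = a l ∧ 4 * l ≠ 0) → α x ∈ C := by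
      rintro x ⟨l, hl, hll⟩
      rw [hC]
      rcases hb : ((α x : P) : QuaternionGroup n) with l' | l'
      · exact ⟨l', rfl⟩
      · exfalso
        have h1 : α x ^ 4 = 1 := Subtype.ext (by rw [SubgroupClass.coe_pow, hb, ← orderOf_xa l', pow_orderOf_eq_one]; rfl)
        rw [← map_pow, map_eq_one_iff α α.injective] at h1
        have h2 : (a l : QuaternionGroup n) ^ 4 = 1 := by rw [← hl]; exact congrArg Subtype.val h1
        rw [show (4 : ℕ) = 2 * 2 from rfl, pow_mul, sq (a l), a_mul_a, sq, a_mul_a, one_def, a.injEq] at h2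
        exact hll (by linear_combination h2)
    have hkey : ∀ x ∈ C, α x ∈ C := by
      intro x hx
      obtain ⟨l, hl⟩ := (hC x).1 hx
      by_cases hll : 4 * l = 0
      · have h1 : α (x * ⟨a j, hj⟩) ∈ C := hbase _ ⟨l + j, by rw [Subgroup.coe_mul, hl, a_mul_a],
          fun e => hjj (by linear_combination e - hll)⟩
        have h2 := mul_mem h1 (InvMemClass.inv_mem (hbase ⟨a j, hj⟩ ⟨j, rfl, hjj⟩))
        rwa [map_mul, mul_inv_cancel_right] at h2
      · exact hbase x ⟨l, hl, hll⟩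
    haveI : IsCyclic C := isCyclic_of_injective
      ((P.subtype.comp C.subtype).codRestrict _ fun x => Subgroup.mem_subgroupOf.mp x.2)
      (fun a b e => Subtype.ext (Subtype.ext (congrArg (Subtype.val ·) e :)))
    obtain ⟨g, hg⟩ := IsCyclic.exists_zpow_surjective (G := C)
    have hfixg : α g = g := CfsgLib.Wr.fix_of_mem_zpowers hP hα _ (by
      obtain ⟨t, ht⟩ := hg ⟨α g, hkey _ g.2⟩
      exact ⟨t, by simpa using congrArg Subtype.val ht⟩)
    have hfix : ∀ c ∈ C, α c = c := fun c hc => by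
      obtain ⟨t, ht⟩ := hg ⟨c, hc⟩
      have ht' : (g : P) ^ t = c := by simpa using congrArg Subtype.val ht
      rw [← ht', map_zpow, hfixg]
    refine eq_one_of_stabilizes hP (Nat.coprime_two_right.1 hα) C hfix fun x => ?_
    by_cases hx : x ∈ C
    · rw [hfix x hx, inv_mul_cancel]; exact one_mem _
    have hax : α x ∉ C := fun e => hx (by
      have h := hfix _ e
      rw [α.injective h] at e
      exact e)
    rcases hx1 : (x : QuaternionGroup n) with l | l
    · exact absurd ((hC x).2 ⟨l, hx1⟩) hx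
    rcases hx2 : ((α x : P) : QuaternionGroup n) with l' | l'
    · exact absurd ((hC _).2 ⟨l', hx2⟩) hax
    refine (hC _).2 ⟨(n : ZMod (2 * n)) + l' - (n + l), ?_⟩
    rw [Subgroup.coe_mul, Subgroup.coe_inv, hx1, hx2, show (xa l : QuaternionGroup n)⁻¹ = xa ((n : ZMod (2 * n)) + l) from rfl, xa_mul_xa]
  push Not at hbig
  by_cases hcyc : IsCyclic P
  · exact absurd (isPGroup_mulAut_of_cyclic hP) hA
  obtain ⟨i, hi⟩ : ∃ i, xa i ∈ P := by
    by_contra hno
    push Not at hno
    refine hcyc (isCyclic_of_injective (Subgroup.inclusion (show P ≤ Subgroup.zpowers (a 1) from fun x hx => ?_))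
      (Subgroup.inclusion_injective _))
    cases x with
    | a l => exact hmemR l
    | xa l => exact absurd hx (hno l)
  have hle : P ≤ quatAt hn i := by
    intro x hx
    cases x with
    | a l => exact four_mul_eq_zero hn (hbig l hx)
    | xa l =>
      have hm := mul_mem hi hx
      rw [xa_mul_xa] at hm
      obtain ⟨t, ht⟩ := four_mul_eq_zero hn (hbig _ hm)
      exact ⟨t - 2, by push_cast; linear_combination ht + half_add_half_q hn⟩
  obtain ⟨e⟩ := quatAt_equiv hn i
  refine ⟨i, le_antisymm hle (Subgroup.subgroupOf_eq_top.1 ?_)⟩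
  by_contra hne
  haveI := isCyclic_of_ne_top_q8 e (P.subgroupOf (quatAt hn i)) hne
  exact hcyc (isCyclic_of_surjective (Subgroup.subgroupOfEquivOfLe hle) (MulEquiv.surjective _))

/-- The automorphism exchanging the two classes. -/
def quatSwap (n : ℕ) : MulAut (QuaternionGroup n) where
  toFun x := match x with
    | a j => a j
    | xa j => xa (j + 1)
  invFun x := match x with
    | a j => a j
    | xa j => xa (j - 1)
  left_inv x := by cases x <;> simp
  right_inv x := by cases x <;> simp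
  map_mul' x y := by
    cases x <;> cases y <;> simp only [a_mul_a, a_mul_xa, xa_mul_a, xa_mul_xa] <;> congr 1 <;> ring

theorem map_swap_quatAt (i : ZMod (2 * n)) :
    (quatAt hn i).map (quatSwap n).toMonoidHom = quatAt hn (i + 1) := by
  ext x
  constructor
  · rintro ⟨y, hy, rfl⟩
    cases y with
    | a j => exact hy
    | xa j =>
      obtain ⟨t, rfl⟩ := hy
      exact ⟨t, by ring⟩
  · intro hx
    refine ⟨(quatSwap n).symm x, ?_, (quatSwap n).apply_symm_apply x⟩
    cases x with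
    | a j => exact hx
    | xa j =>
      obtain ⟨t, rfl⟩ := hx
      exact ⟨t, by ring⟩

theorem map_conj_quatAt (i j : ZMod (2 * n)) :
    (quatAt hn i).map (MulAut.conj (a j)).toMonoidHom = quatAt hn (i - (j + j)) := by
  have key : ∀ i j : ZMod (2 * n), (quatAt hn i).map (MulAut.conj (a j)).toMonoidHom ≤ quatAt hn (i - (j + j)) := by
    rintro i j _ ⟨y, hy, rfl⟩
    show a j * y * a (-j) ∈ _
    cases y with
    | a l =>
      obtain ⟨t, rfl⟩ := hy
      rw [a_mul_a, a_mul_a]
      exact ⟨t, by ring⟩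
    | xa l =>
      obtain ⟨t, rfl⟩ := hy
      rw [a_mul_xa, xa_mul_a]
      exact ⟨t, by ring⟩
  refine le_antisymm (key i j) fun x hx => ⟨(MulAut.conj (a (-j))) x, ?_, ?_⟩
  · have := key (i - (j + j)) (-j) ⟨x, hx, rfl⟩
    rwa [show i - (j + j) - (-j + -j) = i by ring] at this
  · show a j * (a (-j) * x * (a (-j))⁻¹) * (a j)⁻¹ = x
    rw [show (a (-j) : QuaternionGroup n) = (a j)⁻¹ from rfl]
    group

include hn in
theorem quatAt_class [NeZero n] (i : ZMod (2 * n)) : ∃ s : QuaternionGroup n,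
    (quatAt hn 0).map (MulAut.conj s).toMonoidHom = quatAt hn i ∨
      (quatAt hn 1).map (MulAut.conj s).toMonoidHom = quatAt hn i := by
  haveI : NeZero (2 * n) := ⟨by have := NeZero.ne n; omega⟩
  rcases Nat.even_or_odd' i.val with ⟨q, hq | hq⟩
  · refine ⟨a (-(q : ZMod (2 * n))), Or.inl ?_⟩
    rw [map_conj_quatAt, ← ZMod.natCast_zmod_val i, hq]
    congr 1
    push_cast
    ring
  · refine ⟨a (-(q : ZMod (2 * n))), Or.inr ?_⟩
    rw [map_conj_quatAt, ← ZMod.natCast_zmod_val i, hq]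
    congr 1
    push_cast
    ring

theorem card_normalizer_quatAt [NeZero n] (i : ZMod (2 * n)) :
    Nat.card (Subgroup.normalizer (quatAt hn i : Set (QuaternionGroup n))) =
      Nat.card (Subgroup.normalizer (quatAt hn 0 : Set (QuaternionGroup n))) := by
  obtain ⟨s, hs | hs⟩ := quatAt_class hn i
  · rw [← hs, card_normalizer_map]
  · rw [← hs, card_normalizer_map, ← zero_add (1 : ZMod (2 * n)), ← map_swap_quatAt, card_normalizer_map]

theorem candidate_quatAt [NeZero n] (hk : n = 2 ^ (k + 2)) (i : ZMod (2 * n)) :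
    ICandidate (quatAt hn i) (quatAt hn i) := by
  obtain ⟨e⟩ := quatAt_equiv hn i
  refine ICandidate.of_cyclic (isPGroup_quaternionGroup hk) (centralizer_quatAt hn i) ?_ (isCyclic_of_ne_top_q8 e)
  rintro A' ⟨e'⟩
  have hA' : ¬ IsPGroup 2 (MulAut A') := fun hp => by
    haveI : Fact (Nat.Prime 3) := ⟨Nat.prime_three⟩
    have h3 := CfsgLib.Quat.three_dvd_card_aut
    obtain ⟨j, hj⟩ := IsPGroup.iff_card.1 (hp.of_equiv (MulAut.congr (e'.symm.trans e)))
    rw [hj] at h3
    exact absurd (Nat.prime_three.dvd_of_dvd_pow h3) (by norm_num)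
  obtain ⟨j, rfl⟩ := quat_cases hn hk A' hA'
  rw [card_normalizer_quatAt, ← card_normalizer_quatAt hn i]

theorem quatAt_ne_top [NeZero n] (hk : n = 2 ^ (k + 2)) (i : ZMod (2 * n)) : quatAt hn i ≠ ⊤ := fun h' => by
  obtain ⟨e⟩ := quatAt_equiv hn i
  have := CfsgLib.Quat.card_of_q8 e
  rw [h', Subgroup.card_top, CfsgLib.Quat.nat_card, hk, pow_add] at this
  have := Nat.one_le_two_pow (n := k)
  omega

/-- The frame of a generalized quaternion group of order at least 16. -/
theorem quaternion_iframe [NeZero n] (hk : n = 2 ^ (k + 2)) :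
    IFrame (quatAt hn 0) (quatAt hn 0) (quatAt hn 1) (quatAt hn 1) := by
  refine ⟨candidate_quatAt hn hk 0, candidate_quatAt hn hk 1, fun P _ _ hA => ?_, ?_⟩
  · obtain ⟨i, rfl⟩ := quat_cases hn hk P hA
    exact quatAt_class hn i
  · by_contra hA
    obtain ⟨i, hi⟩ := quat_cases hn hk ⊤ fun hp => hA (hp.of_equiv (MulAut.congr Subgroup.topEquiv))
    exact quatAt_ne_top hn hk i hi.symm

theorem card_mulAut_quatAt [NeZero n] (hk : n = 2 ^ (k + 2)) (i : ZMod (2 * n)) :
    Nat.card (MulAut (quatAt hn i)) * Nat.card (Subgroup.centralizer (quatAt hn i : Set (QuaternionGroup n))) ≤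
      3 * Nat.card (Subgroup.normalizer (quatAt hn i : Set (QuaternionGroup n))) := by
  obtain ⟨e⟩ := quatAt_equiv hn i
  have h1 := card_mulAut_q8_le e
  have h2 := two_mul_card_le_normalizer (isPGroup_quaternionGroup hk) (quatAt_ne_top hn hk i)
  have h8 : Nat.card (quatAt hn i) = 8 := CfsgLib.Quat.card_of_q8 e
  rw [card_centralizer_q8 e (centralizer_quatAt hn i)]
  omega

theorem quatAt_sup [NeZero n] : (⊤ : Subgroup (QuaternionGroup n)) ≤
    quatAt hn 0 ⊔ quatAt hn 1 ⊔ commutator (QuaternionGroup n) := by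
  haveI : NeZero (2 * n) := ⟨by have := NeZero.ne n; omega⟩
  refine le_sup_of_le_left fun x _ => ?_
  have h0 : xa (0 : ZMod (2 * n)) ∈ quatAt hn 0 ⊔ quatAt hn 1 := Subgroup.mem_sup_left ⟨0, by simp⟩
  have h1 : xa (1 : ZMod (2 * n)) ∈ quatAt hn 0 ⊔ quatAt hn 1 := Subgroup.mem_sup_right ⟨0, by simp⟩
  have hr : a (1 : ZMod (2 * n)) ∈ quatAt hn 0 ⊔ quatAt hn 1 := by
    have := mul_mem (InvMemClass.inv_mem h0) h1
    rwa [show (xa 0 : QuaternionGroup n)⁻¹ = xa (n + 0) from rfl, xa_mul_xa,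
      show (n : ZMod (2 * n)) + 1 - (n + 0) = 1 by ring] at this
  have hj : ∀ j : ZMod (2 * n), a j ∈ quatAt hn 0 ⊔ quatAt hn 1 := fun j => by
    have := pow_mem hr j.val
    rwa [a_one_pow, ZMod.natCast_zmod_val] at this
  cases x with
  | a j => exact hj j
  | xa j => simpa using mul_mem h0 (hj j)

/-- The character killing the quaternion subgroups through `xa i`. -/
def quatChar (φ : ZMod (2 * n) →+* ZMod 2) (hφ : φ (n : ZMod (2 * n)) = 0) (i : ZMod (2 * n)) :
    QuaternionGroup n →* Multiplicative (ZMod 2) where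
  toFun x := match x with
    | a j => Multiplicative.ofAdd (φ j)
    | xa j => Multiplicative.ofAdd (φ (j - i))
  map_one' := by show Multiplicative.ofAdd (φ 0) = 1; rw [φ.map_zero]; rfl
  map_mul' x y := by
    have key : ∀ a b c : ZMod 2, b - a - c = a + (b - c) ∧ a + b - c = a - c + b ∧ 0 + b - a = a - c + (b - c) := by
      decide
    rcases x with u | u <;> rcases y with v | v
    · show Multiplicative.ofAdd (φ (u + v)) = Multiplicative.ofAdd (φ u + φ v)
      rw [φ.map_add]
    · show Multiplicative.ofAdd (φ (v - u - i)) = Multiplicative.ofAdd (φ u + φ (v - i))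
      rw [φ.map_sub, φ.map_sub, φ.map_sub, (key _ _ _).1]
    · show Multiplicative.ofAdd (φ (u + v - i)) = Multiplicative.ofAdd (φ (u - i) + φ v)
      rw [φ.map_sub, φ.map_add, φ.map_sub, (key _ _ _).2.1]
    · show Multiplicative.ofAdd (φ (n + v - u)) = Multiplicative.ofAdd (φ (u - i) + φ (v - i))
      rw [φ.map_sub, φ.map_add, hφ, φ.map_sub, φ.map_sub, (key _ _ (φ i)).2.2]

theorem not_top_le_quatAt_sup (hk : n = 2 ^ (k + 2)) (i : ZMod (2 * n)) :
    ¬ ⊤ ≤ quatAt hn i ⊔ commutator (QuaternionGroup n) := by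
  have hd : 2 ∣ 2 * n := dvd_mul_right 2 n
  have heven : ∀ t : ℕ, Even t → ZMod.castHom hd (ZMod 2) (t : ZMod (2 * n)) = 0 := fun t ht => by
    rw [map_natCast, ZMod.natCast_eq_zero_iff]
    exact even_iff_two_dvd.1 ht
  have hh : Even h := ⟨2 ^ k, by rw [pow_add] at hk; omega⟩
  have hh0 := heven h hh
  refine not_top_le_sup_commutator
    (quatChar (ZMod.castHom hd (ZMod 2)) (heven n ⟨h, by omega⟩) i) (fun x hx => ?_) (x := a 1) ?_
  · cases x with
    | a j =>
      obtain ⟨t, rfl⟩ := hx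
      show Multiplicative.ofAdd _ = 1
      rw [RingHom.map_mul, hh0, mul_zero]; rfl
    | xa j =>
      obtain ⟨t, rfl⟩ := hx
      show Multiplicative.ofAdd (ZMod.castHom hd (ZMod 2) (i + t * h - i)) = 1
      rw [add_sub_cancel_left, RingHom.map_mul, hh0, mul_zero]; rfl
  · show Multiplicative.ofAdd (ZMod.castHom hd (ZMod 2) 1) ≠ 1
    rw [map_one]
    decide

end

end RankTwo

end FusionSystem

end Cfsg
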