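import Cfsg.Agent.Lib.Fusion.RankTwoReal.Intrinsic

/-!
Tools for describing frames inside a 2-group: transport along isomorphisms, normalizers, quotient maps.
-/

set_option autoImplicit false

namespace Cfsg

namespace FusionSystem

namespace RankTwo

variable {X Y : Type*} [Group X] [Group Y]

theorem map_centralizer_equiv (e : X ≃* Y) (A : Subgroup X) :
    Subgroup.centralizer ((A.map e.toMonoidHom : Subgroup Y) : Set Y) =
      (Subgroup.centralizer (A : Set X)).map e.toMonoidHom := by
  ext y
  constructor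
  · intro hy
    refine ⟨e.symm y, fun a ha => e.injective ?_, e.apply_symm_apply y⟩
    rw [map_mul, map_mul, e.apply_symm_apply]
    exact hy _ ⟨a, ha, rfl⟩
  · rintro ⟨x, hx, rfl⟩ _ ⟨a, ha, rfl⟩
    show e a * e x = e x * e a
    rw [← map_mul, ← map_mul, hx a ha]

theorem map_normalizer_equiv' (e : X ≃* Y) (A : Subgroup X) :
    Subgroup.normalizer ((A.map e.toMonoidHom : Subgroup Y) : Set Y) =
      (Subgroup.normalizer (A : Set X)).map e.toMonoidHom := by
  have hmem : ∀ x : X, e x ∈ A.map e.toMonoidHom ↔ x ∈ A := fun x =>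
    ⟨fun ⟨a, ha, h⟩ => e.injective h ▸ ha, fun h => ⟨x, h, rfl⟩⟩
  ext y
  obtain ⟨x, rfl⟩ := e.surjective y
  have hx : e x ∈ (Subgroup.normalizer (A : Set X)).map e.toMonoidHom ↔ x ∈ Subgroup.normalizer (A : Set X) :=
    ⟨fun ⟨a, ha, h⟩ => e.injective h ▸ ha, fun h => ⟨x, h, rfl⟩⟩
  rw [hx, Subgroup.mem_normalizer_iff, Subgroup.mem_normalizer_iff]
  constructor
  · intro h a
    have := h (e a)
    rwa [← map_inv, ← map_mul, ← map_mul, hmem, hmem] at this
  · intro h b
    obtain ⟨a, rfl⟩ := e.surjective b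
    rw [← map_inv, ← map_mul, ← map_mul, hmem, hmem]
    exact h a

theorem card_normalizer_map (e : X ≃* Y) (A : Subgroup X) :
    Nat.card (Subgroup.normalizer ((A.map e.toMonoidHom : Subgroup Y) : Set Y)) =
      Nat.card (Subgroup.normalizer (A : Set X)) := by
  rw [map_normalizer_equiv']
  exact (Nat.card_congr (Subgroup.equivMapOfInjective _ _ e.injective).toEquiv).symm

theorem two_mul_card_le_normalizer [Finite X] (hX : IsPGroup 2 X) {A : Subgroup X} (hA : A ≠ ⊤) :
    2 * Nat.card A ≤ Nat.card (Subgroup.normalizer (A : Set X)) := by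
  haveI : Fact (Nat.Prime 2) := ⟨Nat.prime_two⟩
  haveI := hX.isNilpotent
  have hlt : A < Subgroup.normalizer (A : Set X) :=
    Group.normalizerCondition_of_isNilpotent A hA.lt_top
  obtain ⟨t, ht⟩ := Subgroup.card_dvd_of_le hlt.le
  have hne : t ≠ 1 := fun h => hlt.ne (Subgroup.eq_of_le_of_card_ge hlt.le (by rw [ht, h, mul_one]))
  have h0 : 0 < Nat.card (Subgroup.normalizer (A : Set X)) := Nat.card_pos
  rw [ht] at h0 ⊢
  have : 2 ≤ t := by
    rcases t with _ | _ | t
    · simp at h0
    · exact absurd rfl hne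
    · omega
  rw [mul_comm 2]
  exact Nat.mul_le_mul_left _ this

/-- A homomorphism to a commutative group shows that a subgroup and the derived group do not generate. -/
theorem not_top_le_sup_commutator {M : Type*} [CommGroup M] (χ : X →* M) {C : Subgroup X} (hC : C ≤ χ.ker) {x : X}
    (hx : χ x ≠ 1) : ¬ ⊤ ≤ C ⊔ commutator X := fun h =>
  hx ((h.trans (sup_le hC (Abelianization.commutator_subset_ker χ))) (Subgroup.mem_top x))

theorem ICandidate.map (e : X ≃* Y) {A core : Subgroup X} (c : ICandidate A core) :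
    ICandidate (A.map e.toMonoidHom) (core.map e.toMonoidHom) := by
  set f := A.equivMapOfInjective e.toMonoidHom e.injective with hf
  have hfa : ∀ a : A, ((f a : A.map e.toMonoidHom) : Y) = e (a : X) := fun a => rfl
  refine ⟨Subgroup.map_mono c.core_le, ?_, ?_, ?_, ?_⟩
  · rw [map_centralizer_equiv]
    exact Subgroup.map_mono c.centric
  · rintro A' ⟨i⟩
    rw [card_normalizer_map, ← card_normalizer_map e.symm]
    exact c.maxNormalizer _ ⟨(f.trans i).trans (A'.equivMapOfInjective _ e.symm.injective)⟩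
  · intro α hα a
    obtain ⟨b, rfl⟩ := f.surjective a
    refine ⟨_, c.diff (MulAut.congr f.symm α) (by rwa [MulEquiv.orderOf_eq]) b, ?_⟩
    rw [← map_inv, ← f.apply_symm_apply (α (f b)), ← map_mul, hfa]
    rfl
  · intro α hα h1
    have hne : MulAut.congr f.symm α ≠ 1 := fun h =>
      h1 ((MulAut.congr f.symm).injective (h.trans (map_one _).symm))
    have h := Subgroup.map_mono (f := e.toMonoidHom) (c.moves (MulAut.congr f.symm α) (by rwa [MulEquiv.orderOf_eq]) hne)
    rw [MonoidHom.map_closure] at h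
    refine h.trans (Subgroup.closure_mono ?_)
    rintro _ ⟨w, ⟨b, rfl⟩, rfl⟩
    refine ⟨f b, ?_⟩
    rw [← map_inv, ← f.apply_symm_apply (α (f b)), ← map_mul, hfa]
    rfl

theorem IFrame.map (e : X ≃* Y) {A cA B cB : Subgroup X} (fr : IFrame A cA B cB) :
    IFrame (A.map e.toMonoidHom) (cA.map e.toMonoidHom) (B.map e.toMonoidHom) (cB.map e.toMonoidHom) := by
  refine ⟨fr.candA.map e, fr.candB.map e, fun P hP hc hA => ?_, fr.autX.of_equiv (MulAut.congr e)⟩
  obtain ⟨P', rfl⟩ : ∃ P' : Subgroup X, P'.map e.toMonoidHom = P :=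
    ⟨P.comap e.toMonoidHom, Subgroup.map_comap_eq_self_of_surjective e.surjective P⟩
  rw [map_centralizer_equiv, Subgroup.map_le_map_iff_of_injective e.injective] at hc
  obtain ⟨s, hs⟩ := fr.cover P' (fun h => hP (h ▸ Subgroup.map_top_of_surjective _ e.surjective)) hc
    fun h => hA (h.of_equiv (MulAut.congr (P'.equivMapOfInjective _ e.injective)))
  refine ⟨e s, ?_⟩
  have key : ∀ C : Subgroup X, (C.map e.toMonoidHom).map (MulAut.conj (e s)).toMonoidHom =
      (C.map (MulAut.conj s).toMonoidHom).map e.toMonoidHom := by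
    intro C
    rw [Subgroup.map_map, Subgroup.map_map]
    congr 1
    ext x
    simp
  rw [key, key]
  exact hs.imp (fun h => by rw [h]) fun h => by rw [h]

end RankTwo

end FusionSystem

end Cfsg
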