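import Cfsg.Agent.Lib.Fusion.RankTwoReal.Assemble
import Cfsg.Agent.Lib.SmallElements
import Cfsg.Agent.Lib.WreathedAut

/-!
Candidates and frames described inside the 2-group itself, and criteria for rigidity.
-/

set_option autoImplicit false

namespace Cfsg

namespace FusionSystem

namespace RankTwo

universe u

/-! ### Generic facts on 2-groups -/

section Generic

variable {X : Type*} [Group X] [Finite X]

/-- An automorphism of odd order of a 2-group fixing a subgroup and every coset of it is trivial. -/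
theorem eq_one_of_stabilizes (hX : IsPGroup 2 X) {α : MulAut X} (hα : Odd (orderOf α)) (C : Subgroup X)
    (hfix : ∀ c ∈ C, α c = c) (hd : ∀ a, a⁻¹ * α a ∈ C) : α = 1 := by
  haveI : Fact (Nat.Prime 2) := ⟨Nat.prime_two⟩
  refine MulEquiv.ext fun a => ?_
  exact CfsgLib.Small.apply_eq_self_of_step hX (Nat.coprime_two_right.2 hα) (hfix _ (hd a))

/-- The closure of the displacements is the whole core if the proper subgroups of the core are cyclic. -/
theorem core_le_closure (hX : IsPGroup 2 X) {core : Subgroup X} (hc : ∀ C, C < core → IsCyclic C) {α : MulAut X}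
    (hα : Odd (orderOf α)) (h1 : α ≠ 1) (hd : ∀ a, a⁻¹ * α a ∈ core) :
    core ≤ Subgroup.closure {w | ∃ a, w = a⁻¹ * α a} := by
  set C := Subgroup.closure {w : X | ∃ a, w = a⁻¹ * α a}
  have hle : C ≤ core := (Subgroup.closure_le _).2 fun w ⟨a, e⟩ => e ▸ hd a
  by_contra h
  haveI := hc C (lt_of_le_of_ne hle fun e => h e.ge)
  refine h1 (eq_one_of_stabilizes hX hα C (fun c hc' => ?_) fun a => Subgroup.subset_closure ⟨a, rfl⟩)
  have hmap : ∀ x ∈ C, α x ∈ C := fun x hx => by
    have := C.mul_mem hx (Subgroup.subset_closure (k := {w : X | ∃ a, w = a⁻¹ * α a}) ⟨x, rfl⟩)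
    rwa [mul_inv_cancel_left] at this
  obtain ⟨g, hg⟩ := IsCyclic.exists_zpow_surjective (G := C)
  have hfix : α g = (g : X) := by
    refine CfsgLib.Wr.fix_of_mem_zpowers hX (Nat.coprime_two_right.2 hα) _ ?_
    obtain ⟨k, hk⟩ := hg ⟨α g, hmap _ g.2⟩
    exact ⟨k, by simpa using congrArg Subtype.val hk⟩
  obtain ⟨k, hk⟩ := hg ⟨c, hc'⟩
  have hk' : ((g : X)) ^ k = c := by simpa using congrArg Subtype.val hk
  rw [← hk', map_zpow, hfix]

end Generic

/-! ### Descriptions inside `S` -/

section Internal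

variable {X : Type*} [Group X]

/-- A candidate, described inside the 2-group. -/
structure ICandidate (A core : Subgroup X) : Prop where
  core_le : core ≤ A
  centric : Subgroup.centralizer (A : Set X) ≤ A
  maxNormalizer : ∀ A' : Subgroup X, Nonempty (A ≃* A') →
    Nat.card (Subgroup.normalizer (A' : Set X)) ≤ Nat.card (Subgroup.normalizer (A : Set X))
  diff : ∀ α : MulAut A, Odd (orderOf α) → ∀ a : A, ((a⁻¹ * α a : A) : X) ∈ core
  moves : ∀ α : MulAut A, Odd (orderOf α) → α ≠ 1 →
    core ≤ Subgroup.closure {w : X | ∃ a : A, w = ((a⁻¹ * α a : A) : X)}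

/-- A candidate equal to its core, all of whose proper subgroups are cyclic. -/
theorem ICandidate.of_cyclic [Finite X] (hX : IsPGroup 2 X) {A : Subgroup X}
    (hc : Subgroup.centralizer (A : Set X) ≤ A)
    (hn : ∀ A' : Subgroup X, Nonempty (A ≃* A') →
      Nat.card (Subgroup.normalizer (A' : Set X)) ≤ Nat.card (Subgroup.normalizer (A : Set X)))
    (hcyc : ∀ C : Subgroup A, C ≠ ⊤ → IsCyclic C) : ICandidate A A := by
  refine ⟨le_rfl, hc, hn, fun α _ a => (a⁻¹ * α a).2, fun α hα h1 x hx => ?_⟩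
  have hA : IsPGroup 2 A := hX.to_subgroup A
  have h := core_le_closure hA (core := ⊤) (fun C hC => hcyc C hC.ne) hα h1 (fun _ => Subgroup.mem_top _)
    (Subgroup.mem_top ⟨x, hx⟩)
  have h' := Subgroup.mem_map_of_mem A.subtype h
  rw [MonoidHom.map_closure] at h'
  refine Subgroup.closure_mono ?_ h'
  rintro _ ⟨w, ⟨a, rfl⟩, rfl⟩
  exact ⟨a, rfl⟩

/-- Every centric proper subgroup with an automorphism of odd order is conjugate to `A` or `B`. -/
structure IFrame (A cA B cB : Subgroup X) : Prop where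
  candA : ICandidate A cA
  candB : ICandidate B cB
  cover : ∀ P : Subgroup X, P ≠ ⊤ → Subgroup.centralizer (P : Set X) ≤ P → ¬ IsPGroup 2 (MulAut P) →
    ∃ s : X, A.map (MulAut.conj s).toMonoidHom = P ∨ B.map (MulAut.conj s).toMonoidHom = P
  autX : IsPGroup 2 (MulAut X)

theorem IFrame.symm {A cA B cB : Subgroup X} (fr : IFrame A cA B cB) : IFrame B cB A cA :=
  ⟨fr.candB, fr.candA, fun P h1 h2 h3 => (fr.cover P h1 h2 h3).imp fun _ h => h.symm, fr.autX⟩

end Internal

variable {Ω : Type u} [Group Ω] {S : Subgroup Ω}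

theorem IsFrame.symm {A cA B cB : Subgroup Ω} (fr : IsFrame S A cA B cB) : IsFrame S B cB A cA :=
  ⟨fr.candB, fr.candA, fun P h1 h2 h3 => (fr.cover P h1 h2 h3).imp fun _ h => ⟨h.1, h.2.symm⟩, fr.autS⟩

/-- A subgroup of `S` inside `Ω`. -/
abbrev up (A : Subgroup S) : Subgroup Ω := A.map S.subtype

/-- The identification of a subgroup of `S` with its image. -/
noncomputable def upEquiv (A : Subgroup S) : A ≃* up A :=
  A.equivMapOfInjective _ S.subtype_injective

theorem coe_upEquiv (A : Subgroup S) (a : A) : ((upEquiv A a : up A) : Ω) = ((a : S) : Ω) := rfl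

theorem up_subgroupOf {P : Subgroup Ω} (hP : P ≤ S) : up (P.subgroupOf S) = P := by
  rw [up, Subgroup.subgroupOf_map_subtype, inf_eq_left.mpr hP]

theorem mem_up {A : Subgroup S} {x : S} : (x : Ω) ∈ up A ↔ x ∈ A :=
  ⟨fun ⟨_, hy, e⟩ => (Subtype.ext e : _ = x) ▸ hy, fun h => ⟨x, h, rfl⟩⟩

theorem subgroupOf_up (A : Subgroup S) : (up A).subgroupOf S = A := by
  ext x
  exact mem_up

theorem up_conj (A : Subgroup S) (s : S) :
    (up A).map (MulAut.conj (s : Ω)).toMonoidHom = up (A.map (MulAut.conj s).toMonoidHom) := by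
  rw [up, up, Subgroup.map_map, Subgroup.map_map]
  rfl

theorem mem_normalizer_up {A : Subgroup S} {g : S} :
    (g : Ω) ∈ Subgroup.normalizer (up A : Set Ω) ↔ g ∈ Subgroup.normalizer (A : Set S) := by
  simp only [Subgroup.mem_normalizer_iff]
  constructor
  · intro h x
    rw [← mem_up (A := A), ← mem_up (A := A) (x := g * x * g⁻¹)]
    exact h x
  · intro h x
    constructor
    · rintro ⟨y, hy, rfl⟩
      exact ⟨g * y * g⁻¹, (h y).1 hy, rfl⟩
    · rintro ⟨y, hy, e⟩
      have hx : x = ((g⁻¹ * y * g : S) : Ω) := by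
        show x = (g : Ω)⁻¹ * (y : Ω) * g
        rw [show (y : Ω) = g * x * (g : Ω)⁻¹ from e]
        group
      exact ⟨g⁻¹ * y * g, (h _).2 (by rwa [show g * (g⁻¹ * y * g) * g⁻¹ = y by group]), hx.symm⟩

theorem normalizerIn_up (A : Subgroup S) :
    normalizerIn S (up A) = up (Subgroup.normalizer (A : Set S)) := by
  ext x
  constructor
  · rintro ⟨hx, hn⟩
    exact ⟨⟨x, hx⟩, (mem_normalizer_up (g := ⟨x, hx⟩)).1 hn, rfl⟩
  · rintro ⟨y, hy, rfl⟩
    exact ⟨y.2, mem_normalizer_up.2 hy⟩

theorem centralizerIn_up (A : Subgroup S) :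
    centralizerIn S (up A) = up (Subgroup.centralizer (A : Set S)) := by
  ext x
  constructor
  · rintro ⟨hx, hc⟩
    refine ⟨⟨x, hx⟩, fun a ha => Subtype.ext ?_, rfl⟩
    exact hc _ ⟨a, ha, rfl⟩
  · rintro ⟨y, hy, rfl⟩
    refine ⟨y.2, ?_⟩
    rintro _ ⟨a, ha, rfl⟩
    exact congrArg Subtype.val (hy a ha)

theorem card_up (A : Subgroup S) : Nat.card (up A) = Nat.card A :=
  (Nat.card_congr (upEquiv A).toEquiv).symm

theorem ICandidate.candidate {A core : Subgroup S} (c : ICandidate A core) : Candidate S (up A) (up core) := by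
  refine ⟨Subgroup.map_subtype_le A, Subgroup.map_mono c.core_le, ?_, ?_, ?_, ?_⟩
  · rw [centralizerIn_up]
    exact Subgroup.map_mono c.centric
  · intro A' hA' ⟨e⟩
    have h := c.maxNormalizer (A'.subgroupOf S) ⟨((upEquiv A).trans e).trans (Subgroup.subgroupOfEquivOfLe hA').symm⟩
    rw [← up_subgroupOf hA', normalizerIn_up, normalizerIn_up, card_up, card_up]
    exact h
  · intro α hα a
    obtain ⟨b, rfl⟩ := (upEquiv A).surjective a
    have ho : Odd (orderOf (MulAut.congr (upEquiv A).symm α)) := by rwa [MulEquiv.orderOf_eq]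
    refine ⟨_, c.diff _ ho b, ?_⟩
    rw [← map_inv, ← (upEquiv A).apply_symm_apply (α (upEquiv A b)), ← map_mul, coe_upEquiv]
    rfl
  · intro α hα h1
    have ho : Odd (orderOf (MulAut.congr (upEquiv A).symm α)) := by rwa [MulEquiv.orderOf_eq]
    have hne : MulAut.congr (upEquiv A).symm α ≠ 1 := fun e =>
      h1 ((MulAut.congr (upEquiv A).symm).injective (e.trans (map_one _).symm))
    have h := Subgroup.map_mono (f := S.subtype) (c.moves _ ho hne)
    rw [MonoidHom.map_closure] at h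
    refine h.trans (Subgroup.closure_mono ?_)
    rintro _ ⟨w, ⟨b, rfl⟩, rfl⟩
    refine ⟨upEquiv A b, ?_⟩
    rw [← map_inv, ← (upEquiv A).apply_symm_apply (α (upEquiv A b)), ← map_mul, coe_upEquiv]
    rfl

theorem IFrame.isFrame {A cA B cB : Subgroup S} (fr : IFrame A cA B cB) :
    IsFrame S (up A) (up cA) (up B) (up cB) := by
  refine ⟨fr.candA.candidate, fr.candB.candidate, fun P hP hc hA => ?_, fr.autX⟩
  have h1 : P.subgroupOf S ≠ ⊤ := fun h => hP.not_ge (Subgroup.subgroupOf_eq_top.1 h)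
  rw [← up_subgroupOf hP.le, centralizerIn_up] at hc
  have h2 : Subgroup.centralizer ((P.subgroupOf S : Subgroup S) : Set S) ≤ P.subgroupOf S :=
    (Subgroup.map_le_map_iff_of_injective S.subtype_injective).1 hc
  obtain ⟨s, hs⟩ := fr.cover _ h1 h2
    fun h => hA (h.of_equiv (MulAut.congr (Subgroup.subgroupOfEquivOfLe hP.le)))
  refine ⟨s, s.2, ?_⟩
  rw [up_conj, up_conj]
  refine hs.imp (fun e => ?_) (fun e => ?_) <;> rw [e, up_subgroupOf hP.le]

/-! ### Rigidity -/

variable [Finite S]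

omit [Finite S] in
theorem card_autInducedBy_up (A : Subgroup S) :
    Nat.card (autInducedBy S (up A)) * Nat.card (Subgroup.centralizer (A : Set S)) =
      Nat.card (Subgroup.normalizer (A : Set S)) := by
  rw [← card_up, ← card_up (Subgroup.normalizer (A : Set S)), ← centralizerIn_up, ← normalizerIn_up]
  exact card_autInducedBy_mul S (up A)

theorem IsBig.three_mul_le {A : Subgroup Ω} (hS : IsPGroup 2 S) (hA : A ≤ S) {H : Subgroup (MulAut A)}
    (h : IsBig S A H) : 3 * Nat.card (autInducedBy S A) ≤ Nat.card H := by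
  haveI : Fact (Nat.Prime 2) := ⟨Nat.prime_two⟩
  haveI := finite_mulAut_of_le hA
  obtain ⟨hle, hodd, α, hα, h1, ho⟩ := h
  set r := (autInducedBy S A).relIndex H with hr
  have hne : r ≠ 1 := fun e => by
    have hmem : α ∈ autInducedBy S A := Subgroup.relIndex_eq_one.1 e hα
    obtain ⟨k, hk⟩ := IsPGroup.iff_orderOf.1 (isPGroup_autInducedBy (P := A) hS) ⟨α, hmem⟩
    rw [Subgroup.orderOf_mk] at hk
    rcases Nat.eq_zero_or_pos k with rfl | hk0
    · exact h1 (orderOf_eq_one_iff.1 (by rw [hk, pow_zero]))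
    · rw [hk] at ho
      exact absurd (Nat.odd_iff.1 ho) (by rw [Nat.mod_eq_zero_of_dvd (dvd_pow_self 2 hk0.ne')] <;> simp)
  have hr0 : r ≠ 0 := fun e => hodd (e ▸ dvd_zero 2)
  have h2 : r ≠ 2 := fun e => hodd (e ▸ dvd_rfl)
  have hmul : Nat.card (autInducedBy S A) * r = Nat.card H := by
    rw [hr, Subgroup.relIndex, ← Nat.card_congr (Subgroup.subgroupOfEquivOfLe hle).toEquiv, Subgroup.card_mul_index]
  rw [← hmul, mul_comm 3]
  exact Nat.mul_le_mul_left _ (by omega)

/-- Rigidity from a homomorphism to a 2-group with a small kernel. -/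
theorem isRigid_of_hom {A : Subgroup Ω} (hS : IsPGroup 2 S) (hA : A ≤ S) {M : Type*} [Group M] [Finite M]
    (hM : IsPGroup 2 M) (f : MulAut A →* M) (hf : autInducedBy S A ≤ f.ker)
    (hcard : Nat.card f.ker ≤ 3 * Nat.card (autInducedBy S A)) : IsRigid S A := by
  haveI : Fact (Nat.Prime 2) := ⟨Nat.prime_two⟩
  haveI := finite_mulAut_of_le hA
  have key : ∀ H, IsBig S A H → H = f.ker := by
    intro H hH
    have hle : H ≤ f.ker := by
      obtain ⟨k, hk⟩ := IsPGroup.iff_card.1 (hM.to_subgroup (H.map f))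
      have h1 : Nat.card (H.map f) ∣ (autInducedBy S A).relIndex H := by
        rw [show Nat.card (H.map f) = (f.comp H.subtype).ker.index by rw [Subgroup.index_ker, MonoidHom.range_comp, Subgroup.range_subtype]]
        exact Subgroup.index_dvd_of_le fun x hx => hf hx
      rcases Nat.eq_zero_or_pos k with rfl | hk0
      · have h2 : H.map f = ⊥ := Subgroup.eq_bot_of_card_eq _ (by simpa using hk)
        exact (Subgroup.map_eq_bot_iff H).1 h2
      · exact absurd ((hk ▸ dvd_pow_self 2 hk0.ne').trans h1) hH.2.1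
    exact Subgroup.eq_of_le_of_card_ge hle (hcard.trans (hH.three_mul_le hS hA))
  exact fun H₁ H₂ h₁ h₂ => (key H₁ h₁).trans (key H₂ h₂).symm

theorem isRigid_of_card {A : Subgroup Ω} (hS : IsPGroup 2 S) (hA : A ≤ S)
    (hcard : Nat.card (MulAut A) ≤ 3 * Nat.card (autInducedBy S A)) : IsRigid S A := by
  haveI := finite_mulAut_of_le hA
  refine isRigid_of_hom hS hA (M := PUnit.{1}) (IsPGroup.of_card (n := 0) (by simp)) 1
    (fun x _ => rfl) (le_trans (Subgroup.card_le_card_group _) hcard)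

end RankTwo

end FusionSystem

end Cfsg
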