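import Cfsg.Agent.Lib.Fusion.Image
import Cfsg.Agent.Lib.Fusion.Inner
import Cfsg.Agent.Lib.Fusion.Alperin

/-!
The fusion system pulled back along an injective homomorphism into a group, and automorphisms of `S` composed with it.
-/

set_option autoImplicit false

namespace Cfsg

namespace FusionSystem

universe u v

variable {Ω : Type u} [Group Ω] {S : Subgroup Ω} {G : Type v} [Group G]

/-- The system on `S` induced by conjugation in `G` along `ι`. -/
def pullbackSystem (ι : S →* G) (hι : Function.Injective ι) : FusionSystem S where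
  Hom P := {φ | ∃ (hP : P ≤ S) (hφ : ∀ x : P, φ x ∈ S), ∃ g : G,
    ∀ x : P, ι ⟨φ x, hφ x⟩ = g * ι ⟨x, hP x.2⟩ * g⁻¹}
  le_of_mem := by
    rintro P φ ⟨hP, hφ, -⟩
    exact ⟨hP, hφ⟩
  injective_of_mem := by
    rintro P φ ⟨hP, hφ, g, hg⟩ a b hab
    have h : g * ι ⟨a, hP a.2⟩ * g⁻¹ = g * ι ⟨b, hP b.2⟩ * g⁻¹ := by
      rw [← hg, ← hg]
      congr 1
      exact Subtype.ext hab
    have h' := hι (mul_left_cancel (mul_right_cancel h))
    exact Subtype.ext (congrArg Subtype.val h' :)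
  conj_mem := by
    intro P g hP hg
    refine ⟨hP, fun x => S.mul_mem (S.mul_mem hg (hP x.2)) (S.inv_mem hg), ι ⟨g, hg⟩, fun x => ?_⟩
    rw [← map_inv, ← map_mul, ← map_mul]
    rfl
  comp_mem := by
    rintro P Q φ ψ ⟨hP, hφ, g, hg⟩ ⟨hQ, hψ, k, hk⟩ h
    refine ⟨hP, fun x => hψ _, k * g, fun x => ?_⟩
    have h1 := hk ⟨φ x, h x⟩
    have h2 := hg x
    rw [mul_inv_rev]
    simp only [MonoidHom.coe_comp, Function.comp_apply, MonoidHom.codRestrict_apply]
    rw [h1, h2]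
    simp only [mul_assoc]
  inv_mem := by
    rintro P φ ⟨hP, hφ, g, hg⟩
    have hinj : Function.Injective φ := by
      intro a b hab
      have h : g * ι ⟨a, hP a.2⟩ * g⁻¹ = g * ι ⟨b, hP b.2⟩ * g⁻¹ := by
        rw [← hg, ← hg]
        congr 1
        exact Subtype.ext hab
      have h' := hι (mul_left_cancel (mul_right_cancel h))
      exact Subtype.ext (congrArg Subtype.val h' :)
    let e := MonoidHom.ofInjective hinj
    have he : ∀ x : P, e.symm ⟨φ x, x, rfl⟩ = x := fun x => e.symm_apply_apply x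
    refine ⟨P.subtype.comp e.symm.toMonoidHom, ⟨?_, fun y => hP (SetLike.coe_mem _), g⁻¹, fun y => ?_⟩,
      fun x => congrArg Subtype.val (he x)⟩
    · rintro _ ⟨x, rfl⟩
      exact hφ x
    · obtain ⟨_, x, rfl⟩ := y
      show ι ⟨(e.symm ⟨φ x, x, rfl⟩ : P), _⟩ = g⁻¹ * ι ⟨φ x, _⟩ * g⁻¹⁻¹
      simp only [he, hg x]
      group

theorem pullbackSystem_isRealizedBy (ι : S →* G) (hι : Function.Injective ι) :
    (pullbackSystem ι hι).IsRealizedBy ι :=
  ⟨hι, fun _P hP _φ hφ => ⟨fun h => h.elim fun _ h => h.elim fun _ h => h, fun h => ⟨hP, hφ, h⟩⟩⟩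

theorem pullbackSystem_isSaturated {p : ℕ} [Fact p.Prime] [Finite G] (ι : S →* G) (hι : Function.Injective ι)
    (T : Sylow p G) (hT : (T : Subgroup G) = ι.range) : (pullbackSystem ι hι).IsSaturated p :=
  (pullbackSystem_isRealizedBy ι hι).isSaturated T hT

theorem isRealizedBy_of_le {F : FusionSystem S} (ι : S →* G) (hι : Function.Injective ι)
    (h₁ : F ≤ pullbackSystem ι hι) (h₂ : pullbackSystem ι hι ≤ F) : F.IsRealizedBy ι := by
  refine ⟨hι, fun P hP φ hφ => ⟨fun h => ?_, fun h => h₂ P ⟨hP, hφ, h⟩⟩⟩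
  obtain ⟨_, _, hg⟩ := h₁ P h
  exact hg

theorem mem_pullback_autGroup (ι : S →* G) (hι : Function.Injective ι) {P : Subgroup Ω} (hP : P ≤ S)
    {α : MulAut P} : α ∈ (pullbackSystem ι hι).autGroup P ↔
      ∃ g : G, ∀ x : P, ι ⟨(α x : P), hP (α x).2⟩ = g * ι ⟨x, hP x.2⟩ * g⁻¹ := by
  rw [(pullbackSystem ι hι).mem_autGroup_iff hP]
  constructor
  · rintro ⟨_, _, hg⟩
    exact hg
  · intro h
    exact ⟨hP, fun x => hP (α x).2, h⟩

end FusionSystem

end Cfsg
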